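/-
A Sylow 2-subgroup of a symmetric group is the product of its restrictions to invariant sets.
-/
import Cfsg.Agent.Lib.Perm.SylowTwoSelfNorm.Pairs
import Cfsg.Agent.Lib.Perm.Groups.SylowTwoMax.Basic
import Mathlib

set_option autoImplicit false

namespace CfsgLib.Perm.SylowTwoDecomp

open Equiv CfsgLib.SylTwoSelf

variable {α : Type*} [Fintype α] [DecidableEq α]

/-- Keep `g` on `S` when `S` is invariant. -/
def res (S : Finset α) (g : Perm α) : Perm α :=
  if h : ∀ x, g x ∈ S ↔ x ∈ S then (g.subtypePerm h).ofSubtype else 1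

theorem res_apply {S : Finset α} {g : Perm α} (h : ∀ x, g x ∈ S ↔ x ∈ S) (x : α) :
    res S g x = if x ∈ S then g x else x := by
  rw [res, dif_pos h]
  split_ifs with hx
  · rw [Perm.ofSubtype_apply_of_mem _ hx]; rfl
  · rw [Perm.ofSubtype_apply_of_not_mem _ hx]

variable (P : Sylow 2 (Perm α))

/-- `S` is invariant under `P`. -/
def Inv (S : Finset α) : Prop := ∀ p ∈ P, ∀ x, p x ∈ S ↔ x ∈ S

/-- The orbit of `x`. -/
noncomputable def orb (x : α) : Finset α := by
  classical exact Finset.univ.filter fun y => ∃ p ∈ P, p x = y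

variable {P}

theorem mem_orb {x y : α} : y ∈ orb P x ↔ ∃ p ∈ P, p x = y := by simp [orb]

theorem mem_orb_self (x : α) : x ∈ orb P x := mem_orb.2 ⟨1, one_mem _, rfl⟩

theorem orb_inv (x : α) : Inv P (orb P x) := by
  intro p hp y
  simp only [mem_orb]
  constructor
  · rintro ⟨q, hq, e⟩
    exact ⟨p⁻¹ * q, mul_mem (inv_mem hp) hq, by rw [Perm.mul_apply, e, Perm.inv_def, symm_apply_apply]⟩
  · rintro ⟨q, hq, e⟩
    exact ⟨p * q, mul_mem hp hq, by rw [Perm.mul_apply, e]⟩

theorem orb_eq {x y : α} (h : y ∈ orb P x) : orb P y = orb P x := by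
  obtain ⟨p, hp, rfl⟩ := mem_orb.1 h
  ext z
  simp only [mem_orb]
  constructor
  · rintro ⟨q, hq, rfl⟩; exact ⟨q * p, mul_mem hq hp, rfl⟩
  · rintro ⟨q, hq, rfl⟩
    exact ⟨q * p⁻¹, mul_mem hq (inv_mem hp), by rw [Perm.mul_apply, Perm.inv_def, symm_apply_apply]⟩

theorem inv_sdiff {S T : Finset α} (hS : Inv P S) (hT : Inv P T) : Inv P (S \ T) :=
  fun p hp x => by simp only [Finset.mem_sdiff, hS p hp x, hT p hp x]

theorem inv_compl {S : Finset α} (hS : Inv P S) : Inv P Sᶜ :=
  fun p hp x => by simp only [Finset.mem_compl, hS p hp x]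

theorem inv_union {S T : Finset α} (hS : Inv P S) (hT : Inv P T) : Inv P (S ∪ T) :=
  fun p hp x => by simp only [Finset.mem_union, hS p hp x, hT p hp x]

theorem orb_subset {S : Finset α} (hS : Inv P S) {x : α} (hx : x ∈ S) : orb P x ⊆ S := by
  intro y hy
  obtain ⟨p, hp, rfl⟩ := mem_orb.1 hy
  exact (hS p hp x).2 hx

theorem exists_card_orb (x : α) : ∃ k, (orb P x).card = 2 ^ k := by
  haveI : Fact (Nat.Prime 2) := ⟨Nat.prime_two⟩
  obtain ⟨k, hk⟩ := P.isPGroup'.card_orbit x
  refine ⟨k, ?_⟩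
  rw [← hk, ← Nat.card_eq_finsetCard]
  refine Nat.card_congr (Equiv.subtypeEquivRight fun y => ?_)
  rw [mem_orb, MulAction.mem_orbit_iff]
  exact ⟨fun ⟨p, hp, e⟩ => ⟨⟨p, hp⟩, e⟩, fun ⟨p, e⟩ => ⟨p.1, p.2, e⟩⟩

theorem res_apply_of {S : Finset α} (hS : Inv P S) {g : Perm α} (hg : g ∈ P) (x : α) :
    res S g x = if x ∈ S then g x else x := res_apply (hS g hg) x

theorem res_apply_mem {S : Finset α} (hS : Inv P S) {g : Perm α} (hg : g ∈ P) {x : α} (hx : x ∈ S) :
    res S g x = g x := by rw [res_apply_of hS hg, if_pos hx]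

theorem res_apply_not_mem {S : Finset α} (hS : Inv P S) {g : Perm α} (hg : g ∈ P) {x : α} (hx : x ∉ S) :
    res S g x = x := by rw [res_apply_of hS hg, if_neg hx]

theorem res_mul {S : Finset α} (hS : Inv P S) {g h : Perm α} (hg : g ∈ P) (hh : h ∈ P) :
    res S (g * h) = res S g * res S h := by
  refine Equiv.ext fun x => ?_
  rw [Perm.mul_apply, res_apply_of hS (mul_mem hg hh), res_apply_of hS hh]
  by_cases hx : x ∈ S
  · rw [if_pos hx, if_pos hx, res_apply_mem hS hg ((hS h hh x).2 hx), Perm.mul_apply]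
  · rw [if_neg hx, if_neg hx, res_apply_not_mem hS hg hx]

theorem res_mul_compl {S : Finset α} (hS : Inv P S) {g : Perm α} (hg : g ∈ P) :
    res S g * res Sᶜ g = g := by
  refine Equiv.ext fun x => ?_
  rw [Perm.mul_apply, res_apply_of (inv_compl hS) hg]
  by_cases hx : x ∈ S
  · rw [if_neg (by simpa using hx), res_apply_mem hS hg hx]
  · rw [if_pos (by simpa using hx), res_apply_not_mem hS hg (fun h => hx ((hS g hg x).1 h))]

/-- The two restriction maps. -/
def resHom {S : Finset α} (hS : Inv P S) : (P : Subgroup (Perm α)) →* Perm α :=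
  MonoidHom.mk' (fun g => res S g.1) fun g h => res_mul hS g.2 h.2

theorem res_commute_compl {S : Finset α} (hS : Inv P S) {g h : Perm α} (hg : g ∈ P) (hh : h ∈ P) :
    Commute (res S g) (res Sᶜ h) := by
  refine Equiv.ext fun x => ?_
  simp only [Perm.mul_apply]
  by_cases hx : x ∈ S
  · rw [res_apply_not_mem (inv_compl hS) hh (x := x) (by simpa using hx),
      res_apply_mem hS hg hx, res_apply_not_mem (inv_compl hS) hh (by simpa using (hS g hg x).2 hx)]
  · rw [res_apply_mem (inv_compl hS) hh (x := x) (by simpa using hx), res_apply_not_mem hS hg hx,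
      res_apply_not_mem hS hg (fun hm => hx ((hS h hh x).1 hm)), res_apply_mem (inv_compl hS) hh (by simpa using hx)]

/-- Restrictions of members are members. -/
theorem res_mem {S : Finset α} (hS : Inv P S) {g : Perm α} (hg : g ∈ P) : res S g ∈ P := by
  haveI : Fact (Nat.Prime 2) := ⟨Nat.prime_two⟩
  let f := MonoidHom.noncommCoprod (resHom hS) (resHom (inv_compl hS)) fun a b => res_commute_compl hS a.2 b.2
  have hle : (P : Subgroup (Perm α)) ≤ f.range := fun p hp => ⟨(⟨p, hp⟩, ⟨p, hp⟩), res_mul_compl hS hp⟩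
  have hp : IsPGroup 2 f.range := by
    refine IsPGroup.of_surjective ?_ f.rangeRestrict f.rangeRestrict_surjective
    obtain ⟨n, hn⟩ := IsPGroup.iff_card.1 P.isPGroup'
    exact IsPGroup.of_card (n := n + n) (by rw [Nat.card_prod, pow_add, ← hn])
  show res S g ∈ (P : Subgroup (Perm α))
  rw [← P.3 hp hle]
  exact ⟨(⟨g, hg⟩, 1), by
    show res S g * res Sᶜ (1 : Perm α) = res S g
    rw [show res Sᶜ (1 : Perm α) = 1 from map_one (resHom (inv_compl hS)), mul_one]⟩

theorem res_res {S T : Finset α} (hS : Inv P S) (hT : Inv P T) {g : Perm α} (hg : g ∈ P) :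
    res T (res S g) = res (S ∩ T) g := by
  have hI : Inv P (S ∩ T) := fun p hp x => by simp only [Finset.mem_inter, hS p hp x, hT p hp x]
  refine Equiv.ext fun x => ?_
  rw [res_apply_of hT (res_mem hS hg), res_apply_of hI hg, res_apply_of hS hg]
  by_cases h1 : x ∈ T <;> by_cases h2 : x ∈ S <;> simp [h1, h2]

/-- A property of all restrictions to orbits that is closed under products holds. -/
theorem of_res_orb (K : Subgroup (Perm α)) {g : Perm α} (hg : g ∈ P) (h : ∀ x, g x ≠ x → res (orb P x) g ∈ K) :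
    g ∈ K := by
  generalize hn : g.support.card = n
  induction n using Nat.strong_induction_on generalizing g with
  | _ n ih =>
    by_cases hx : ∃ x, g x ≠ x
    · obtain ⟨x, hx⟩ := hx
      have hO := orb_inv (P := P) x
      rw [← res_mul_compl hO hg]
      refine K.mul_mem (h x hx) (ih _ ?_ (res_mem (inv_compl hO) hg) (fun y hy => ?_) rfl)
      · rw [← hn]
        refine Finset.card_lt_card (Finset.ssubset_iff_of_subset (fun y hy => ?_) |>.2 ⟨x, ?_, ?_⟩)
        · rw [Perm.mem_support, res_apply_of (inv_compl hO) hg] at hy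
          rw [Perm.mem_support]
          split_ifs at hy with h1
          · exact hy
          · exact absurd rfl hy
        · exact Perm.mem_support.2 hx
        · rw [Perm.mem_support, not_not, res_apply_not_mem (inv_compl hO) hg (by simp [mem_orb_self])]
      · have hyc : y ∈ (orb P x)ᶜ := by
          by_contra hc
          exact hy (res_apply_not_mem (inv_compl hO) hg hc)
        rw [res_res (inv_compl hO) (orb_inv y) hg, Finset.inter_eq_right.2 (orb_subset (inv_compl hO) hyc)]
        rw [res_apply_mem (inv_compl hO) hg hyc] at hy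
        exact h y hy
    · push Not at hx
      rw [show g = 1 from Equiv.ext hx]
      exact K.one_mem

/-- The sign is even when it is on every orbit. -/
theorem even_of_res_orb {g : Perm α} (hg : g ∈ P) (h : ∀ x, g x ≠ x → res (orb P x) g ∈ alternatingGroup α) :
    g ∈ alternatingGroup α := of_res_orb _ hg h

/-! ### Covering by transpositions -/

theorem covered_of_one_lt {x : α} (h : 1 < (orb P x).card) : Covered P x := by
  by_contra hx
  obtain ⟨y, hy, hne⟩ := Finset.exists_mem_ne h x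
  obtain ⟨p, hp, rfl⟩ := mem_orb.1 hy
  exact hne (uncovered_unique (fun hc => hx ((covered_apply_iff (le_pairStab hp)).1 hc)) hx)

theorem exists_pair {x : α} (h : Covered P x) :
    ∃ t ∈ pairs P, t x ≠ x ∧ t = swap x (t x) := by
  obtain ⟨t, ht, hx⟩ := h
  exact ⟨t, ht, hx, eq_swap_of_moves ht.2 hx⟩

theorem one_lt_of_covered {x : α} (h : Covered P x) : 1 < (orb P x).card := by
  obtain ⟨t, ht, hx, -⟩ := exists_pair h
  exact Finset.one_lt_card.2 ⟨t x, mem_orb.2 ⟨t, ht.1, rfl⟩, x, mem_orb_self x, hx⟩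

theorem pair_conj {x y : α} {t t' : Perm α} (ht : t ∈ pairs P) (ht' : t' ∈ pairs P) (hx : t x ≠ x)
    (hy : t' y ≠ y) {p : Perm α} (hp : p ∈ P) (e : p x = y) : p * t * p⁻¹ = t' := by
  refine pairs_eq_of_moves ((le_pairStab hp t).1 ht) ht' ?_ hy
  rw [← e]
  simpa using hx

/-- A permutation commuting with `t` preserves its two points. -/
theorem apply_of_commute {t c : Perm α} {x : α} (ht : t ∈ pairs P) (hx : t x ≠ x) (hc : Commute c t) :
    c x = x ∨ c x = t x := by
  have h1 : t (c x) ≠ c x := by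
    rw [← Perm.mul_apply, ← hc.eq, Perm.mul_apply]
    exact fun h => hx (c.injective h)
  obtain ⟨a, b, hab, rfl⟩ := ht.2
  have key : ∀ z, swap a b z ≠ z → z = a ∨ z = b := fun z hz => by
    by_contra hc'
    rw [not_or] at hc'
    exact hz (swap_apply_of_ne_of_ne hc'.1 hc'.2)
  rcases key x hx with rfl | rfl <;> rcases key _ h1 with e | e <;> simp [e]

/-- An element commuting with `P` is, on an orbit, trivial or the fixed-point-free product of pairs. -/
theorem central_cases {c : Perm α} (hc : ∀ p ∈ P, Commute p c) {x : α} (hx : Covered P x) :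
    (∀ y ∈ orb P x, c y = y) ∨ ∀ y ∈ orb P x, ∃ t ∈ pairs P, t y ≠ y ∧ c y = t y := by
  by_cases h : c x = x
  · left
    intro y hy
    obtain ⟨p, hp, rfl⟩ := mem_orb.1 hy
    rw [← Perm.mul_apply, ← (hc p hp).eq, Perm.mul_apply, h]
  · right
    intro y hy
    obtain ⟨p, hp, rfl⟩ := mem_orb.1 hy
    obtain ⟨t, ht, htx, -⟩ := exists_pair hx
    have htp : Covered P (p x) := covered_apply (le_pairStab hp) hx
    obtain ⟨t', ht', hty, -⟩ := exists_pair htp
    refine ⟨t', ht', hty, ?_⟩
    rcases apply_of_commute ht' hty (hc t' ht'.1).symm with e | e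
    · exfalso
      refine h (p.injective ?_)
      rw [← Perm.mul_apply, (hc p hp).eq, Perm.mul_apply, e]
    · exact e

theorem eq_of_central {S : Finset α} {x : α} (hS : S = orb P x) (hx : Covered P x) {c c' : Perm α}
    (hc : ∀ p ∈ P, Commute p c) (hc' : ∀ p ∈ P, Commute p c') (h1 : c ≠ 1) (h1' : c' ≠ 1)
    (hs : ∀ y ∉ S, c y = y) (hs' : ∀ y ∉ S, c' y = y) : c = c' := by
  subst hS
  have move : ∀ d : Perm α, (∀ p ∈ P, Commute p d) → d ≠ 1 → (∀ y ∉ orb P x, d y = y) →
      ∀ y ∈ orb P x, ∃ t ∈ pairs P, t y ≠ y ∧ d y = t y := fun d hd hd1 hds => by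
    refine (central_cases hd hx).resolve_left fun hl => hd1 (Equiv.ext fun y => ?_)
    by_cases hy : y ∈ orb P x
    · exact hl y hy
    · exact hds y hy
  refine Equiv.ext fun y => ?_
  by_cases hy : y ∈ orb P x
  · obtain ⟨t, ht, hty, e⟩ := move c hc h1 hs y hy
    obtain ⟨t', ht', hty', e'⟩ := move c' hc' h1' hs' y hy
    rw [e, e', pairs_eq_of_moves ht ht' hty hty']
  · rw [hs y hy, hs' y hy]

end CfsgLib.Perm.SylowTwoDecomp
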