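/-
Commuting factors on one orbit of a Sylow 2-subgroup of a symmetric group.
-/
import Cfsg.Agent.Lib.Perm.SylowTwoDecomp.Orbits

set_option autoImplicit false

namespace CfsgLib.Perm.SylowTwoDecomp

open Equiv CfsgLib.SylTwoSelf

variable {α : Type*} [Fintype α] [DecidableEq α] {P : Sylow 2 (Perm α)}

/-- `g` fixes every point outside `S`. -/
def Supp (S : Finset α) (g : Perm α) : Prop := ∀ y ∉ S, g y = y

theorem supp_res {S : Finset α} (hS : Inv P S) {g : Perm α} (hg : g ∈ P) : Supp S (res S g) :=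
  fun _ hy => res_apply_not_mem hS hg hy

theorem res_eq_self {S : Finset α} (hS : Inv P S) {g : Perm α} (hg : g ∈ P) (h : Supp S g) : res S g = g := by
  refine Equiv.ext fun y => ?_
  rw [res_apply_of hS hg]
  split_ifs with hy
  · rfl
  · exact (h y hy).symm

theorem commute_of_res {S : Finset α} (hS : Inv P S) {g p : Perm α} (hg : g ∈ P) (hp : p ∈ P) (hs : Supp S g)
    (hc : Commute g (res S p)) : Commute g p := by
  rw [← res_mul_compl hS hp]
  refine hc.mul_right ?_
  rw [← res_eq_self hS hg hs]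
  exact res_commute_compl hS hg hp

theorem supp_pair {S : Finset α} (hS : Inv P S) {t : Perm α} (ht : t ∈ pairs P) {x : α} (hx : t x ≠ x) (hxS : x ∈ S) :
    Supp S t := by
  intro y hy
  by_contra hty
  have e := eq_swap_of_moves ht.2 hx
  rcases eq_or_ne y x with rfl | h1
  · exact hy hxS
  rcases eq_or_ne y (t x) with rfl | h2
  · exact hy ((hS t ht.1 x).2 hxS)
  · exact hty (by rw [e, swap_apply_of_ne_of_ne h1 h2])

theorem supp_conj {S : Finset α} (hS : Inv P S) {g w : Perm α} (hw : w ∈ P) (hg : Supp S g) :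
    Supp S (w * g * w⁻¹) := by
  intro y hy
  rw [Perm.mul_apply, Perm.mul_apply, hg _ (fun h => hy ((hS w⁻¹ (inv_mem hw) y).1 h))]
  simp

/-- The members supported on `S`. -/
def part (P : Sylow 2 (Perm α)) (S : Finset α) : Subgroup (Perm α) where
  carrier := {g | g ∈ P ∧ Supp S g}
  one_mem' := ⟨one_mem _, fun _ _ => rfl⟩
  mul_mem' := fun {a b} ha hb => ⟨mul_mem ha.1 hb.1, fun y hy => by rw [Perm.mul_apply, hb.2 y hy, ha.2 y hy]⟩
  inv_mem' := fun {a} ha => ⟨inv_mem ha.1, fun y hy => by rw [Perm.inv_eq_iff_eq, ha.2 y hy]⟩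

theorem card_part_le_eight {S : Finset α} (h4 : S.card = 4) : Nat.card (part P S) ≤ 8 := by
  classical
  let f : part P S → Perm {y // y ∈ S} := fun g => g.1.subtypePerm fun y => by
    by_cases hy : y ∈ S
    · refine iff_of_true (by_contra fun h => ?_) hy
      exact h (by rw [g.1.injective (g.2.2 _ h)]; exact hy)
    · exact iff_of_false (by rw [g.2.2 y hy]; exact hy) hy
  have hf : Function.Injective f := fun g g' h => Subtype.ext (Equiv.ext fun y => by
    by_cases hy : y ∈ S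
    · exact congrArg Subtype.val (Equiv.congr_fun h ⟨y, hy⟩)
    · rw [g.2.2 y hy, g'.2.2 y hy])
  have h1 := Subgroup.card_dvd_of_injective (MonoidHom.mk' f fun g g' => Equiv.ext fun y => Subtype.ext rfl) hf
  rw [Nat.card_perm, Nat.card_eq_finsetCard, h4] at h1
  have hp : IsPGroup 2 (part P S) := P.isPGroup'.to_le fun g hg => hg.1
  haveI : Fact (Nat.Prime 2) := ⟨Nat.prime_two⟩
  obtain ⟨n, hn⟩ := IsPGroup.iff_card.1 hp
  rw [hn] at h1 ⊢
  have : n ≤ 4 := by
    by_contra hc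
    have : 2 ^ 5 ≤ 2 ^ n := Nat.pow_le_pow_right (by norm_num) (by omega)
    have := Nat.le_of_dvd (Nat.factorial_pos 4) h1
    norm_num [Nat.factorial] at this
    omega
  interval_cases n
  all_goals (revert h1; norm_num [Nat.factorial])

variable {x : α} {A B : Subgroup (Perm α)}

theorem four_le_of_big (h : 4 ≤ (orb P x).card) {t : Perm α} (ht : t ∈ pairs P) (hx : t x ≠ x) :
    ∃ y ∈ orb P x, t y = y := by
  by_contra hc
  push Not at hc
  have hsub : orb P x ⊆ {x, t x} := fun y hy => by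
    have := hc y hy
    rw [eq_swap_of_moves ht.2 hx] at this
    by_contra hy'
    simp only [Finset.mem_insert, Finset.mem_singleton, not_or] at hy'
    exact this (swap_apply_of_ne_of_ne hy'.1 hy'.2)
  have := (Finset.card_le_card hsub).trans Finset.card_le_two
  omega

/-- Two commuting factors of the group on one orbit: one of them is central. -/
theorem central_factor (h4 : 4 ≤ (orb P x).card) (hA : A ≤ part P (orb P x)) (hB : B ≤ part P (orb P x))
    (hcomm : ∀ a ∈ A, ∀ b ∈ B, Commute a b) (hprod : ∀ p ∈ P, ∃ a ∈ A, ∃ b ∈ B, res (orb P x) p = a * b) :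
    (∀ a ∈ A, ∀ p ∈ P, Commute p a) ∨ ∀ b ∈ B, ∀ p ∈ P, Commute p b := by
  by_contra hcon
  rw [not_or] at hcon
  obtain ⟨hA0, hB0⟩ := hcon
  set O := orb P x with hO
  have hI : Inv P O := orb_inv x
  -- centrality reduces to commuting with both factors
  have hcen : ∀ g ∈ part P O, (∀ a ∈ A, Commute g a) → (∀ b ∈ B, Commute g b) → ∀ p ∈ P, Commute p g := by
    intro g hg ha hb p hp
    obtain ⟨a, haA, b, hbB, e⟩ := hprod p hp
    exact (commute_of_res hI hg.1 hp hg.2 (e ▸ (ha a haA).mul_right (hb b hbB))).symm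
  have hAne : ¬ ∀ a ∈ A, ∀ a' ∈ A, Commute a a' := fun h => hA0 fun a ha =>
    hcen a (hA ha) (fun a' ha' => h a ha a' ha') (fun b hb => hcomm a ha b hb)
  have hBne : ¬ ∀ b ∈ B, ∀ b' ∈ B, Commute b b' := fun h => hB0 fun b hb =>
    hcen b (hB hb) (fun a ha => (hcomm a ha b hb).symm) (fun b' hb' => h b hb b' hb')
  have hcov : Covered P x := covered_of_one_lt (by rw [← hO]; omega)
  obtain ⟨t, ht, htx, -⟩ := exists_pair hcov
  have htO : t ∈ part P O := ⟨ht.1, supp_pair hI ht htx (mem_orb_self x)⟩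
  obtain ⟨a, ha, b, hb, hab⟩ := hprod t ht.1
  rw [res_eq_self hI ht.1 htO.2] at hab
  have hOne4 : O.card ≠ 4 := by
    -- in the group of order eight centralisers of noncentral elements are commutative
    intro hc4
    haveI : Fact (Nat.Prime 2) := ⟨Nat.prime_two⟩
    obtain ⟨a₀, ha₀, a₁, ha₁, hna⟩ : ∃ a₀ ∈ A, ∃ a₁ ∈ A, ¬ Commute a₀ a₁ := by simpa using hAne
    obtain ⟨b₀, hb₀, b₁, hb₁, hnb⟩ : ∃ b₀ ∈ B, ∃ b₁ ∈ B, ¬ Commute b₀ b₁ := by simpa using hBne
    set C := part P O ⊓ Subgroup.centralizer {a₀}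
    have hb₀C : b₀ ∈ C := ⟨hB hb₀, Subgroup.mem_centralizer_singleton_iff.2 (hcomm a₀ ha₀ b₀ hb₀).symm.eq⟩
    have hb₁C : b₁ ∈ C := ⟨hB hb₁, Subgroup.mem_centralizer_singleton_iff.2 (hcomm a₀ ha₀ b₁ hb₁).symm.eq⟩
    have hlt : Nat.card C < Nat.card (part P O) := by
      refine lt_of_le_of_ne (Subgroup.card_le_of_le inf_le_left) fun e => hna ?_
      have := Subgroup.eq_of_le_of_card_ge inf_le_left e.ge
      have ha₁C : a₁ ∈ C := this.ge (hA ha₁)
      exact (Subgroup.mem_centralizer_singleton_iff.1 ha₁C.2).symm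
    have h8 := card_part_le_eight (P := P) hc4
    have hp : IsPGroup 2 C := P.isPGroup'.to_le fun g hg => hg.1.1
    obtain ⟨n, hn⟩ := IsPGroup.iff_card.1 hp
    have hn2 : n ≤ 2 := by
      by_contra hc
      have : 2 ^ 3 ≤ 2 ^ n := Nat.pow_le_pow_right (by norm_num) (by omega)
      omega
    refine hnb ?_
    have hcm : ∀ g h : C, g * h = h * g := by
      interval_cases n
      · haveI := (Nat.card_eq_one_iff_unique.1 hn).1
        exact fun g h => Subsingleton.elim _ _
      · haveI := isCyclic_of_prime_card (p := 2) (by simpa using hn)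
        letI := IsCyclic.commGroup (α := C)
        exact fun g h => mul_comm g h
      · exact IsPGroup.commutative_of_card_eq_prime_sq hn
    exact congrArg Subtype.val (hcm ⟨b₀, hb₀C⟩ ⟨b₁, hb₁C⟩)
  -- if some conjugate of `t` under a factor moves, the other factor centralises its own part of `t`
  have key : ∀ {A B : Subgroup (Perm α)}, A ≤ part P O → B ≤ part P O → (∀ a ∈ A, ∀ b ∈ B, Commute a b) →
      (∀ p ∈ P, ∃ a ∈ A, ∃ b ∈ B, res O p = a * b) → ∀ {a b}, a ∈ A → b ∈ B → t = a * b →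
      ∀ a' ∈ A, a' * t * a'⁻¹ ≠ t → ∀ b' ∈ B, b' * t * b'⁻¹ = t := by
    intro A B hA hB hcomm hprod a b ha hb hab a' ha' hmove b' hb'
    set t' := a' * t * a'⁻¹ with ht'
    have ht'p : t' ∈ pairs P := (le_pairStab (hA ha').1 t).1 ht
    have e1 : t' * t⁻¹ = a' * a * a'⁻¹ * a⁻¹ := by
      rw [ht', hab, mul_inv_rev]
      calc a' * (a * b) * a'⁻¹ * (b⁻¹ * a⁻¹) = a' * a * (b * a'⁻¹) * b⁻¹ * a⁻¹ := by group
        _ = a' * a * (a'⁻¹ * b) * b⁻¹ * a⁻¹ := by rw [((hcomm _ (inv_mem ha') b hb).symm).eq]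
        _ = _ := by group
    have huA : t' * t⁻¹ ∈ A := e1 ▸ mul_mem (mul_mem (mul_mem ha' ha) (inv_mem ha')) (inv_mem ha)
    set t'' := b' * t * b'⁻¹ with ht''
    have ht''p : t'' ∈ pairs P := (le_pairStab (hB hb').1 t).1 ht
    have e2 : t'' * t⁻¹ = b' * b * b'⁻¹ * b⁻¹ := by
      rw [ht'', hab, mul_inv_rev]
      calc b' * (a * b) * b'⁻¹ * (b⁻¹ * a⁻¹) = (b' * a) * b * b'⁻¹ * b⁻¹ * a⁻¹ := by group
        _ = (a * b') * b * b'⁻¹ * b⁻¹ * a⁻¹ := by rw [(hcomm a ha b' hb').symm.eq]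
        _ = a * (b' * b * b'⁻¹ * b⁻¹) * a⁻¹ := by group
        _ = (b' * b * b'⁻¹ * b⁻¹) * a * a⁻¹ := by
          rw [(hcomm a ha _ (mul_mem (mul_mem (mul_mem hb' hb) (inv_mem hb')) (inv_mem hb))).eq]
        _ = _ := by group
    by_contra hne
    have huB : t'' * t⁻¹ ∈ B := e2 ▸ mul_mem (mul_mem (mul_mem hb' hb) (inv_mem hb')) (inv_mem hb)
    have hcb : Commute b' (t' * t⁻¹) := (hcomm _ huA _ hb').symm
    set t₃ := b' * t' * b'⁻¹
    have ht₃p : t₃ ∈ pairs P := (le_pairStab (hB hb').1 t').1 ht'p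
    have e3 : t₃ * t''⁻¹ = t' * t⁻¹ := by
      calc t₃ * t''⁻¹ = b' * (t' * t⁻¹) * b'⁻¹ := by simp only [t₃, ht'']; group
        _ = t' * t⁻¹ := by rw [hcb.eq, mul_inv_cancel_right]
    have hti : t⁻¹ = t := inv_eq_of_mul_eq_one_right (isSwap_sq ht.2)
    have ht''i : t''⁻¹ = t'' := inv_eq_of_mul_eq_one_right (isSwap_sq ht''p.2)
    have hfix : t' x = x := by
      by_contra hc
      exact hmove (pairs_eq_of_moves ht'p ht hc htx)
    have hfix' : t' (t x) = t x := by
      by_contra hc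
      exact hmove (pairs_eq_of_moves ht'p ht hc (fun h => htx (t.injective h)))
    have hmv : t₃ (t'' x) ≠ x := by
      rw [← Perm.mul_apply, ← ht''i, e3, hti, Perm.mul_apply, hfix']
      exact htx
    have hor : t'' = t' ∨ t'' = t := by
      by_cases h1 : t'' x = x
      · rw [h1] at hmv
        have e4 : t₃ = t := pairs_eq_of_moves ht₃p ht hmv htx
        left
        rw [e4, ht''i, hti] at e3
        calc t'' = t * (t * t'') := by rw [← mul_assoc, isSwap_sq ht.2, one_mul]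
          _ = t * (t' * t) := by rw [e3]
          _ = t' := by
            rw [(pairs_disjoint ht'p ht hmove).commute.eq, ← mul_assoc, isSwap_sq ht.2, one_mul]
      · exact Or.inr (pairs_eq_of_moves ht''p ht h1 htx)
    rcases hor with e4 | e4
    swap
    · exact hne e4
    rw [e4] at huB
    set u := t' * t⁻¹
    have hu_part : u ∈ part P O := hA huA
    have huc : ∀ p ∈ P, Commute p u := fun p hp => by
      obtain ⟨a₁, ha₁, b₁, hb₁, e5⟩ := hprod p hp
      refine (commute_of_res hI hu_part.1 hp hu_part.2 ?_).symm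
      rw [e5]
      exact (hcomm a₁ ha₁ u huB).symm.mul_right (hcomm u huA b₁ hb₁)
    obtain ⟨z, hz, hzt⟩ : ∃ z ∈ O, t z = z ∧ t' z = z := by
      by_contra hc
      push Not at hc
      have hsub : O ⊆ {x, t x, a' x, a' (t x)} := fun y hy => by
        simp only [Finset.mem_insert, Finset.mem_singleton]
        by_contra hy'
        simp only [not_or] at hy'
        refine hc y hy ?_ ?_
        · rw [eq_swap_of_moves ht.2 htx]; exact swap_apply_of_ne_of_ne hy'.1 hy'.2.1
        · rw [ht', eq_swap_of_moves ht.2 htx, CfsgLib.SylTwoSelf.conj_swap]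
          exact swap_apply_of_ne_of_ne hy'.2.2.1 hy'.2.2.2
      have h5 := (Finset.card_le_card hsub).trans Finset.card_le_four
      obtain ⟨k, hk⟩ := exists_card_orb (P := P) x
      rw [← hO] at hk
      have : k ≤ 2 := by
        by_contra hc2
        have : 2 ^ 3 ≤ 2 ^ k := Nat.pow_le_pow_right (by norm_num) (by omega)
        omega
      interval_cases k <;> omega
    have hux : u x = t x := by
      simp only [u, hti, Perm.mul_apply, hfix']
    rcases central_cases huc hcov with hl | hr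
    · exact htx (hux ▸ hl x (mem_orb_self x))
    · obtain ⟨t₄, -, h4', e5⟩ := hr z hz
      exact h4' (by rw [← e5]; simp only [u, hti, Perm.mul_apply, hzt.1, hzt.2])
  -- one of the factors fixes `t`
  have fin : ∀ {A B : Subgroup (Perm α)}, A ≤ part P O → B ≤ part P O → (∀ a ∈ A, ∀ b ∈ B, Commute a b) →
      (∀ p ∈ P, ∃ a ∈ A, ∃ b ∈ B, res O p = a * b) → ∀ {a b}, a ∈ A → b ∈ B → t = a * b →
      (∀ b' ∈ B, b' * t * b'⁻¹ = t) → ∀ b₁ ∈ B, ∀ b₂ ∈ B, Commute b₁ b₂ := by
    intro A B hA hB hcomm hprod a b ha hb hab hfix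
    have hbc : ∀ b' ∈ B, Commute b' b := fun b' hb' => by
      have h1 : Commute b' t := mul_inv_eq_iff_eq_mul.1 (hfix b' hb')
      have h2 : Commute b' a := (hcomm a ha b' hb').symm
      have h3 := h2.inv_right.mul_right h1
      rwa [hab, inv_mul_cancel_left] at h3
    have hall : ∀ b' ∈ B, ∀ s ∈ pairs P, ∀ y ∈ O, s y ≠ y → Commute b' s := by
      intro b' hb' s hs y hy hsy
      obtain ⟨p, hp, rfl⟩ := mem_orb.1 hy
      have e := pair_conj ht hs htx hsy (res_mem hI hp) (res_apply_mem hI hp (mem_orb_self x))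
      obtain ⟨a₁, ha₁, b₁, hb₁, e1⟩ := hprod p hp
      rw [← e, e1]
      have e2 : a₁ * b₁ * t * (a₁ * b₁)⁻¹ = (a₁ * a * a₁⁻¹) * b := by
        calc a₁ * b₁ * t * (a₁ * b₁)⁻¹ = a₁ * (b₁ * t * b₁⁻¹) * a₁⁻¹ := by group
          _ = a₁ * (a * b) * a₁⁻¹ := by rw [hfix b₁ hb₁, hab]
          _ = a₁ * a * (b * a₁⁻¹) := by group
          _ = a₁ * a * (a₁⁻¹ * b) := by rw [(hcomm _ (inv_mem ha₁) b hb).symm.eq]
          _ = _ := by group
      rw [e2]
      exact ((hcomm _ (mul_mem (mul_mem ha₁ ha) (inv_mem ha₁)) b' hb').symm).mul_right (hbc b' hb')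
    intro b₁ hb₁ b₂ hb₂
    refine Equiv.ext fun y => ?_
    simp only [Perm.mul_apply]
    by_cases hy : y ∈ O
    · have hcy : Covered P y := covered_of_one_lt (by rw [orb_eq hy, ← hO]; omega)
      obtain ⟨s, hs, hsy, -⟩ := exists_pair hcy
      have c1 := hall b₁ hb₁ s hs y hy hsy
      have c2 := hall b₂ hb₂ s hs y hy hsy
      have f1 : b₁ (s y) = s (b₁ y) := by rw [← Perm.mul_apply, c1.eq, Perm.mul_apply]
      have f2 : b₂ (s y) = s (b₂ y) := by rw [← Perm.mul_apply, c2.eq, Perm.mul_apply]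
      rcases apply_of_commute hs hsy c1 with e1 | e1 <;> rcases apply_of_commute hs hsy c2 with e2 | e2 <;>
        simp [e1, e2, f1, f2]
    · rw [(hB hb₂).2 y hy, (hB hb₁).2 y hy, (hB hb₂).2 y hy]
  by_cases hmove : ∃ a' ∈ A, a' * t * a'⁻¹ ≠ t
  · obtain ⟨a', ha', hm⟩ := hmove
    exact hBne (fin hA hB hcomm hprod ha hb hab (key hA hB hcomm hprod ha hb hab a' ha' hm))
  · push Not at hmove
    refine hAne (fin hB hA (fun b hb a ha => (hcomm a ha b hb).symm) (fun p hp => ?_) hb ha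
      (hab.trans (hcomm a ha b hb).eq) hmove)
    obtain ⟨a, ha, b, hb, e⟩ := hprod p hp
    exact ⟨b, hb, a, ha, e.trans (hcomm a ha b hb).eq⟩

/-- Some factor is not central. -/
theorem not_both_central (h4 : 4 ≤ (orb P x).card) (hA : ∀ a ∈ A, ∀ p ∈ P, Commute p a)
    (hB : ∀ b ∈ B, ∀ p ∈ P, Commute p b) (hprod : ∀ p ∈ P, ∃ a ∈ A, ∃ b ∈ B, res (orb P x) p = a * b) : False := by
  have hI : Inv P (orb P x) := orb_inv x
  obtain ⟨t, ht, htx, -⟩ := exists_pair (covered_of_one_lt (P := P) (x := x) (by omega))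
  obtain ⟨y, hy, hty⟩ := four_le_of_big h4 ht htx
  obtain ⟨p, hp, rfl⟩ := mem_orb.1 hy
  obtain ⟨a, ha, b, hb, e⟩ := hprod t ht.1
  rw [res_eq_self hI ht.1 (supp_pair hI ht htx (mem_orb_self x))] at e
  have hc : Commute p t := e ▸ (hA a ha p hp).mul_right (hB b hb p hp)
  rw [← Perm.mul_apply, ← hc.eq, Perm.mul_apply] at hty
  exact htx (p.injective hty)

end CfsgLib.Perm.SylowTwoDecomp
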