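/-
The orbit sizes of a Sylow 2-subgroup of a symmetric group, as read from the degree.
-/
import Cfsg.Agent.Lib.Perm.SylowTwoDecomp.Orbits

set_option autoImplicit false

namespace CfsgLib.Perm.SylowTwoDecomp

open Equiv CfsgLib.SylTwoSelf CfsgLib.Perm.Groups.SylowTwoMax
open scoped Pointwise

variable {α : Type*} [Fintype α] [DecidableEq α] {P : Sylow 2 (Perm α)}

theorem dvd_card_of_orb {d : ℕ} (S : Finset α) (hS : Inv P S) (h : ∀ x ∈ S, d ∣ (orb P x).card) :
    d ∣ S.card := by
  induction S using Finset.strongInduction with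
  | _ S ih =>
    rcases S.eq_empty_or_nonempty with rfl | ⟨x, hx⟩
    · simp
    · have hsub := orb_subset hS hx
      rw [← Finset.card_sdiff_add_card_eq_card hsub]
      exact Nat.dvd_add (ih _ (Finset.sdiff_ssubset hsub ⟨x, mem_orb_self x⟩) (inv_sdiff hS (orb_inv x))
        (fun y hy => h y (Finset.sdiff_subset hy))) (h x hx)

theorem odd_choose_of_inv {S : Finset α} (hS : Inv P S) : Odd ((Fintype.card α).choose S.card) := by
  haveI : Fact (Nat.Prime 2) := ⟨Nat.prime_two⟩
  rw [← index_stab S, Nat.odd_iff]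
  have hle : (P : Subgroup (Perm α)) ≤ MulAction.stabilizer (Perm α) (S : Set α) := fun p hp =>
    MulAction.mem_stabilizer_set.2 fun x => by simpa using hS p hp x
  have h1 := Subgroup.index_dvd_of_le hle
  have h2 : ¬ 2 ∣ (P : Subgroup (Perm α)).index := P.not_dvd_index
  by_contra hc
  exact h2 (dvd_trans (by omega) h1)

theorem choose_two_pow (j : ℕ) : ∀ n : ℕ, n.choose (2 ^ j) % 2 = n / 2 ^ j % 2 := by
  induction j with
  | zero => simp
  | succ j ih =>
    intro n
    haveI : Fact (Nat.Prime 2) := ⟨Nat.prime_two⟩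
    have h := Choose.choose_modEq_choose_mod_mul_choose_div_nat (p := 2) (n := n) (k := 2 ^ (j + 1))
    rw [Nat.pow_succ', Nat.mul_mod_right, Nat.choose_zero_right, one_mul, Nat.mul_div_cancel_left _ (by norm_num)] at h
    rw [Nat.pow_succ', ← Nat.div_div_eq_div_mul, ← ih]
    exact h

theorem card_orb_cases (x : α) :
    (¬ Covered P x ∧ (orb P x).card = 1) ∨ (Covered P x ∧ (orb P x).card = 2) ∨
      (Covered P x ∧ 4 ≤ (orb P x).card ∧ 4 ∣ (orb P x).card) := by
  obtain ⟨k, hk⟩ := exists_card_orb (P := P) x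
  match k, hk with
  | 0, hk => exact Or.inl ⟨fun h => by have := one_lt_of_covered h; simp [hk] at this, by simpa using hk⟩
  | 1, hk => exact Or.inr (Or.inl ⟨covered_of_one_lt (by simp [hk]), by simpa using hk⟩)
  | k + 2, hk =>
    have h4 : (orb P x).card = 4 * 2 ^ k := by rw [hk, pow_add]; ring
    have : 0 < 2 ^ k := Nat.two_pow_pos k
    exact Or.inr (Or.inr ⟨covered_of_one_lt (by omega), by omega, ⟨_, h4⟩⟩)

/-- The union of the orbits with at least four points. -/
noncomputable def big (P : Sylow 2 (Perm α)) : Finset α :=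
  Finset.univ.filter fun x => 4 ≤ (orb P x).card

theorem mem_big {x : α} : x ∈ big P ↔ 4 ≤ (orb P x).card := by simp [big]

theorem big_inv : Inv P (big P) := fun p hp x => by
  rw [mem_big, mem_big, orb_eq (mem_orb.2 ⟨p, hp, rfl⟩)]

theorem four_dvd_big : 4 ∣ (big P).card := dvd_card_of_orb _ big_inv fun x hx => by
  rcases card_orb_cases (P := P) x with ⟨-, h⟩ | ⟨-, h⟩ | ⟨-, -, h⟩
  · exact absurd (mem_big.1 hx) (by omega)
  · exact absurd (mem_big.1 hx) (by omega)
  · exact h

theorem orb_eq_pair {x : α} (h : (orb P x).card = 2) {t : Perm α} (ht : t ∈ pairs P) (hx : t x ≠ x) :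
    orb P x = {x, t x} :=
  (Finset.eq_of_subset_of_card_le (by
    intro y hy
    simp only [Finset.mem_insert, Finset.mem_singleton] at hy
    rcases hy with rfl | rfl
    · exact mem_orb_self y
    · exact mem_orb.2 ⟨t, ht.1, rfl⟩) (by rw [h, Finset.card_pair (Ne.symm hx)])).symm

theorem two_unique {x y : α} (hx : (orb P x).card = 2) (hy : (orb P y).card = 2) : y ∈ orb P x := by
  by_contra hne
  haveI : Fact (Nat.Prime 2) := ⟨Nat.prime_two⟩
  obtain ⟨t, ht, htx, het⟩ := exists_pair (covered_of_one_lt (P := P) (x := x) (by omega))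
  obtain ⟨u, hu, huy, heu⟩ := exists_pair (covered_of_one_lt (P := P) (x := y) (by omega))
  have eX := orb_eq_pair hx ht htx
  have eY := orb_eq_pair hy hu huy
  obtain ⟨x', hx'⟩ : ∃ x', t x = x' := ⟨_, rfl⟩
  obtain ⟨y', hy'⟩ : ∃ y', u y = y' := ⟨_, rfl⟩
  rw [hx'] at het eX htx
  rw [hy'] at heu eY huy
  rw [eX] at hne
  simp only [Finset.mem_insert, Finset.mem_singleton, not_or] at hne
  have h1 : y' ≠ x ∧ y' ≠ x' := by
    have hn : x ∉ orb P y ∧ x' ∉ orb P y := by
      constructor <;> intro hm <;> have := orb_eq hm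
      · exact (show y ∉ orb P x by rw [eX]; simp [hne.1, hne.2]) (by rw [this]; exact mem_orb_self y)
      · rw [orb_eq (show x' ∈ orb P x by rw [eX]; simp)] at this
        exact (show y ∉ orb P x by rw [eX]; simp [hne.1, hne.2]) (by rw [this]; exact mem_orb_self y)
    rw [eY] at hn
    simp only [Finset.mem_insert, Finset.mem_singleton, not_or] at hn
    exact ⟨fun e => hn.1.2 e.symm, fun e => hn.2.2 e.symm⟩
  obtain ⟨σ, hσ⟩ : ∃ σ : Perm α, σ = swap x y * swap x' y' := ⟨_, rfl⟩
  have s1 : σ x = y := by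
    rw [hσ, Perm.mul_apply, swap_apply_of_ne_of_ne htx.symm h1.1.symm, swap_apply_left]
  have s2 : σ x' = y' := by
    rw [hσ, Perm.mul_apply, swap_apply_left, swap_apply_of_ne_of_ne h1.1 huy]
  have s3 : σ y = x := by
    rw [hσ, Perm.mul_apply, swap_apply_of_ne_of_ne hne.2 huy.symm, swap_apply_right]
  have s4 : σ y' = x' := by
    rw [hσ, Perm.mul_apply, swap_apply_right, swap_apply_of_ne_of_ne htx (Ne.symm hne.2)]
  have hs : ∀ z, z ∉ orb P x ∪ orb P y → σ z = z := by
    intro z hz
    rw [eX, eY] at hz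
    simp only [Finset.mem_union, Finset.mem_insert, Finset.mem_singleton, not_or] at hz
    rw [hσ, Perm.mul_apply, swap_apply_of_ne_of_ne hz.1.2 hz.2.2, swap_apply_of_ne_of_ne hz.1.1 hz.2.1]
  have hsq : σ * σ = 1 := Equiv.ext fun z => by
    rw [Perm.mul_apply, Perm.one_apply]
    by_cases hz : z ∈ orb P x ∪ orb P y
    · rw [eX, eY] at hz
      simp only [Finset.mem_union, Finset.mem_insert, Finset.mem_singleton] at hz
      rcases hz with (rfl | rfl) | (rfl | rfl)
      · rw [s1, s3]
      · rw [s2, s4]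
      · rw [s3, s1]
      · rw [s4, s2]
    · rw [hs z hz, hs z hz]
  have ct : σ * t * σ⁻¹ = u := by rw [het, conj_swap, s1, s2, heu]
  have cu : σ * u * σ⁻¹ = t := by rw [heu, conj_swap, s3, s4, het]
  -- `σ` normalises the group
  have hW : Inv P (orb P x ∪ orb P y) := inv_union (orb_inv x) (orb_inv y)
  have key : ∀ p ∈ P, σ * p * σ⁻¹ ∈ P := by
    intro p hp
    rw [← res_mul_compl hW hp]
    obtain ⟨g, hgdef⟩ : ∃ g, g = res (orb P x ∪ orb P y) p := ⟨_, rfl⟩
    obtain ⟨r, hr⟩ : ∃ r, r = res (orb P x ∪ orb P y)ᶜ p := ⟨_, rfl⟩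
    have hg : g ∈ P := hgdef ▸ res_mem hW hp
    have hrP : r ∈ P := hr ▸ res_mem (inv_compl hW) hp
    have hcr : σ * r * σ⁻¹ = r := by
      rw [mul_inv_eq_iff_eq_mul]
      refine Equiv.ext fun z => ?_
      rw [Perm.mul_apply, Perm.mul_apply]
      have hrz : ∀ z ∈ orb P x ∪ orb P y, r z = z := fun z hz => by
        rw [hr]; exact res_apply_not_mem (inv_compl hW) hp (by rw [Finset.mem_compl, not_not]; exact hz)
      by_cases hz : z ∈ orb P x ∪ orb P y
      · rw [hrz z hz, hrz (σ z)]
        by_contra hc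
        exact hc ((σ.injective (hs _ hc)).symm ▸ hz)
      · rw [hs z hz, hs (r z)]
        exact fun h => hz ((hW r hrP z).1 h)
    rw [← hgdef, ← hr, show σ * (g * r) * σ⁻¹ = (σ * g * σ⁻¹) * (σ * r * σ⁻¹) by group, hcr]
    refine mul_mem ?_ hrP
    have hgX : g x = x ∨ g x = x' := by simpa [eX] using ((orb_inv x) g hg x).2 (mem_orb_self x)
    have hgY : g y = y ∨ g y = y' := by simpa [eY] using ((orb_inv y) g hg y).2 (mem_orb_self y)
    have hgX' : g x' = x ∨ g x' = x' := by
      simpa [eX] using ((orb_inv x) g hg x').2 (by rw [eX]; simp)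
    have hgY' : g y' = y ∨ g y' = y' := by
      simpa [eY] using ((orb_inv y) g hg y').2 (by rw [eY]; simp)
    obtain ⟨a, ha, hat⟩ : ∃ a ∈ P, σ * a * σ⁻¹ ∈ P ∧ (a x = g x ∧ a x' = g x') ∧ ∀ z, z ∉ orb P x → a z = z := by
      rcases hgX with e | e
      · refine ⟨1, one_mem _, by simp, ⟨by simp [e], ?_⟩, fun z _ => rfl⟩
        rcases hgX' with e' | e'
        · exact absurd (g.injective (e'.trans e.symm)) htx
        · simp [e']
      · refine ⟨t, ht.1, by rw [ct]; exact hu.1, ⟨by rw [hx', e], ?_⟩, fun z hz => ?_⟩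
        · rcases hgX' with e' | e'
          · rw [e', het, swap_apply_right]
          · exact absurd (g.injective (e'.trans e.symm)) htx
        · rw [eX] at hz; simp only [Finset.mem_insert, Finset.mem_singleton, not_or] at hz
          rw [het, swap_apply_of_ne_of_ne hz.1 hz.2]
    obtain ⟨hac, ⟨ha1, ha2⟩, ha3⟩ := hat
    obtain ⟨b, hb, hbt⟩ : ∃ b ∈ P, σ * b * σ⁻¹ ∈ P ∧ (b y = g y ∧ b y' = g y') ∧ ∀ z, z ∉ orb P y → b z = z := by
      rcases hgY with e | e
      · refine ⟨1, one_mem _, by simp, ⟨by simp [e], ?_⟩, fun z _ => rfl⟩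
        rcases hgY' with e' | e'
        · exact absurd (g.injective (e'.trans e.symm)) huy
        · simp [e']
      · refine ⟨u, hu.1, by rw [cu]; exact ht.1, ⟨by rw [hy', e], ?_⟩, fun z hz => ?_⟩
        · rcases hgY' with e' | e'
          · rw [e', heu, swap_apply_right]
          · exact absurd (g.injective (e'.trans e.symm)) huy
        · rw [eY] at hz; simp only [Finset.mem_insert, Finset.mem_singleton, not_or] at hz
          rw [heu, swap_apply_of_ne_of_ne hz.1 hz.2]
    obtain ⟨hbc, ⟨hb1, hb2⟩, hb3⟩ := hbt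
    have hgab : g = a * b := by
      refine Equiv.ext fun z => ?_
      rw [Perm.mul_apply]
      by_cases hzy : z ∈ orb P y
      · rw [ha3 (b z)]
        · rw [eY] at hzy; simp only [Finset.mem_insert, Finset.mem_singleton] at hzy
          rcases hzy with rfl | rfl
          · rw [hb1]
          · rw [hb2]
        · intro hm
          have := (orb_eq hm).symm.trans (orb_eq (show b z ∈ orb P y from ((orb_inv y) b hb z).2 hzy))
          have hyx : y ∈ orb P x := this ▸ mem_orb_self y
          rw [eX] at hyx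
          simp only [Finset.mem_insert, Finset.mem_singleton] at hyx
          rcases hyx with e | e
          · exact hne.1 e
          · exact hne.2 e
      · rw [hb3 z hzy]
        by_cases hzx : z ∈ orb P x
        · rw [eX] at hzx; simp only [Finset.mem_insert, Finset.mem_singleton] at hzx
          rcases hzx with rfl | rfl
          · rw [ha1]
          · rw [ha2]
        · rw [ha3 z hzx, hgdef, res_apply_not_mem hW hp (by simp [hzx, hzy])]
    rw [hgab, show σ * (a * b) * σ⁻¹ = (σ * a * σ⁻¹) * (σ * b * σ⁻¹) by group]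
    exact mul_mem hac hbc
  have hnorm : Subgroup.zpowers σ ≤ Subgroup.normalizer ((P : Subgroup (Perm α)) : Set (Perm α)) := by
    rw [Subgroup.zpowers_le, Subgroup.mem_normalizer_iff]
    intro p
    refine ⟨key p, fun h => ?_⟩
    have := key _ h
    have hi : σ⁻¹ = σ := inv_eq_of_mul_eq_one_right hsq
    rw [hi] at this
    rwa [show σ * (σ * p * σ) * σ = σ * σ * p * (σ * σ) by simp only [mul_assoc], hsq, one_mul, mul_one] at this
  have hz : IsPGroup 2 (Subgroup.zpowers σ) := by
    refine IsPGroup.of_card (n := 1) ?_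
    rw [Nat.card_zpowers, pow_one]
    exact orderOf_eq_prime (by rw [pow_two, hsq]) fun e => by
      rw [e, Perm.one_apply] at s1; exact hne.1 s1.symm
  have hsup := IsPGroup.to_sup_of_normal_right' hz P.isPGroup' hnorm
  have hmem : σ ∈ (P : Subgroup (Perm α)) := P.3 hsup le_sup_right ▸ Subgroup.mem_sup_left (Subgroup.mem_zpowers σ)
  have hyx : y ∈ orb P x := mem_orb.2 ⟨σ, hmem, s1⟩
  rw [eX] at hyx
  simp only [Finset.mem_insert, Finset.mem_singleton] at hyx
  rcases hyx with e | e
  · exact hne.1 e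
  · exact hne.2 e

theorem card_compl_big : (big P)ᶜ.card ≤ 3 ∧
    ((∀ x, (orb P x).card ≠ 2) → (big P)ᶜ.card ≤ 1) := by
  classical
  have hsplit : (big P)ᶜ ⊆ (Finset.univ.filter fun x => ¬ Covered P x) ∪
      (Finset.univ.filter fun x => (orb P x).card = 2) := by
    intro x hx
    rw [Finset.mem_compl, mem_big] at hx
    simp only [Finset.mem_union, Finset.mem_filter, Finset.mem_univ, true_and]
    rcases card_orb_cases (P := P) x with ⟨h, -⟩ | ⟨-, h⟩ | ⟨-, h, -⟩
    · exact Or.inl h
    · exact Or.inr h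
    · exact absurd h hx
  have hU : (Finset.univ.filter fun x => ¬ Covered P x).card ≤ 1 :=
    Finset.card_le_one.2 fun a ha b hb => uncovered_unique (Finset.mem_filter.1 ha).2 (Finset.mem_filter.1 hb).2
  have h := (Finset.card_le_card hsplit).trans (Finset.card_union_le _ _)
  have hT : (Finset.univ.filter fun x => (orb P x).card = 2).card ≤ 2 := by
    rcases (Finset.univ.filter fun x => (orb P x).card = 2).eq_empty_or_nonempty with e | ⟨x, hx⟩
    · simp [e]
    · have hx2 := (Finset.mem_filter.1 hx).2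
      refine le_trans (Finset.card_le_card fun y hy => ?_) hx2.le
      exact two_unique hx2 (Finset.mem_filter.1 hy).2
  refine ⟨by omega, fun h2 => ?_⟩
  have : (Finset.univ.filter fun x => (orb P x).card = 2) = ∅ :=
    Finset.filter_eq_empty_iff.2 fun x _ => h2 x
  rw [this, Finset.card_empty] at h
  omega

theorem card_big : (big P).card = 4 * (Fintype.card α / 4) := by
  have h1 := (card_compl_big (P := P)).1
  obtain ⟨c, hc⟩ := four_dvd_big (P := P)
  have := Finset.card_compl_add_card (big P)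
  omega

theorem exists_two_iff :
    (∃ x, (orb P x).card = 2) ↔ Fintype.card α % 4 = 2 ∨ Fintype.card α % 4 = 3 := by
  constructor
  · rintro ⟨x, hx⟩
    have h := odd_choose_of_inv (orb_inv (P := P) x)
    have h2 := choose_two_pow 1 (Fintype.card α)
    rw [hx, Nat.odd_iff] at h
    rw [pow_one] at h2
    omega
  · intro h
    by_contra hc
    push Not at hc
    have h1 := (card_compl_big (P := P)).2 hc
    obtain ⟨c, hc⟩ := four_dvd_big (P := P)
    have := Finset.card_compl_add_card (big P)
    omega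

/-- The large orbit is unique exactly when `4 * (n / 4)` is a power of two. -/
theorem big_one_iff (h4 : 4 ≤ Fintype.card α) :
    (∃ x, big P = orb P x ∧ 4 ≤ (orb P x).card) ↔ ∃ r : ℕ, 4 * (Fintype.card α / 4) = 2 ^ r := by
  constructor
  · rintro ⟨x, hx, -⟩
    obtain ⟨k, hk⟩ := exists_card_orb (P := P) x
    exact ⟨k, by rw [← card_big (P := P), hx, hk]⟩
  · rintro ⟨r, hr⟩
    have hb := card_big (P := P)
    obtain ⟨x, hx⟩ : (big P).Nonempty := Finset.card_pos.1 (by omega)
    have hsub := orb_subset big_inv hx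
    refine ⟨x, (Finset.eq_of_subset_of_card_le hsub ?_).symm, mem_big.1 hx⟩
    by_contra hlt
    rw [not_le] at hlt
    obtain ⟨j, hj⟩ := exists_card_orb (P := P) x
    have hx4 := mem_big.1 hx
    rw [hj] at hlt hx4
    have h := odd_choose_of_inv (orb_inv (P := P) x)
    rw [hj, Nat.odd_iff, choose_two_pow] at h
    rw [hb, hr] at hlt
    have hjr : j < r := (Nat.pow_lt_pow_iff_right (by norm_num)).1 hlt
    obtain ⟨d, rfl⟩ : ∃ d, r = j + (d + 1) := ⟨r - j - 1, by omega⟩
    have e : Fintype.card α = 2 ^ j * (2 ^ d * 2) + Fintype.card α % 4 := by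
      rw [← pow_succ, ← pow_add, ← hr]
      omega
    rw [e, Nat.mul_add_div (Nat.two_pow_pos j), Nat.div_eq_of_lt (by omega : Fintype.card α % 4 < 2 ^ j),
      add_zero, Nat.mul_mod_left] at h
    exact absurd h (by norm_num)

end CfsgLib.Perm.SylowTwoDecomp
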