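/-
Central elements of the even part of a Sylow 2-subgroup of a symmetric group.
-/
import Cfsg.Agent.Lib.Perm.SylowTwoDecomp.Blocks
import Cfsg.Agent.Lib.Perm.SylowTwoDecomp.Shapes
import Cfsg.Prelude.Def_TwoFusion

set_option autoImplicit false

namespace CfsgLib.Perm.SylowTwoDecomp

open Equiv CfsgLib.SylTwoSelf

/-- `R` is a nontrivial internal direct product. -/
def Decomp {G : Type*} [Group G] (R : Subgroup G) : Prop :=
  ∃ S₁ S₂ : Subgroup G, S₁ ≠ ⊥ ∧ S₂ ≠ ⊥ ∧ Cfsg.IsInternalDirectProduct S₁ S₂ R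

theorem exists_factor {G : Type*} [Group G] {A B R : Subgroup G}
    (hc : ∀ a ∈ A, ∀ b ∈ B, a * b = b * a) (hs : A ⊔ B = R) {r : G} (hr : r ∈ R) :
    ∃ a ∈ A, ∃ b ∈ B, r = a * b := by
  have h := MonoidHom.noncommCoprod_range A.subtype B.subtype fun a b => hc _ a.2 _ b.2
  rw [Subgroup.range_subtype, Subgroup.range_subtype, hs] at h
  obtain ⟨⟨a, b⟩, e⟩ := h.ge hr
  exact ⟨a, a.2, b, b.2, e.symm⟩

theorem decomp_map_iff {G H : Type*} [Group G] [Group H] (f : G →* H) (hf : Function.Injective f)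
    (R : Subgroup G) : Decomp (R.map f) ↔ Decomp R := by
  constructor
  · rintro ⟨A, B, hA, hB, h1, h2, h3, h4, h5⟩
    have eA : (A.comap f).map f = A := Subgroup.map_comap_eq_self (h1.trans (Subgroup.map_le_range f R))
    have eB : (B.comap f).map f = B := Subgroup.map_comap_eq_self (h2.trans (Subgroup.map_le_range f R))
    refine ⟨A.comap f, B.comap f, fun h => hA (by rw [← eA, h, Subgroup.map_bot]),
      fun h => hB (by rw [← eB, h, Subgroup.map_bot]), (Subgroup.map_le_map_iff_of_injective hf).1 (eA.le.trans h1),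
      (Subgroup.map_le_map_iff_of_injective hf).1 (eB.le.trans h2), fun a ha b hb => hf ?_, ?_, ?_⟩
    · rw [map_mul, map_mul]; exact h3 _ ha _ hb
    · apply Subgroup.map_injective hf
      rw [Subgroup.map_inf _ _ f hf, eA, eB, h4, Subgroup.map_bot]
    · apply Subgroup.map_injective hf
      rw [Subgroup.map_sup, eA, eB, h5]
  · rintro ⟨A, B, hA, hB, h1, h2, h3, h4, h5⟩
    refine ⟨A.map f, B.map f, fun h => hA ((Subgroup.map_eq_bot_iff_of_injective A hf).1 h),
      fun h => hB ((Subgroup.map_eq_bot_iff_of_injective B hf).1 h), Subgroup.map_mono h1, Subgroup.map_mono h2,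
      ?_, ?_, ?_⟩
    · rintro _ ⟨a, ha, rfl⟩ _ ⟨b, hb, rfl⟩
      rw [← map_mul, ← map_mul, h3 a ha b hb]
    · rw [← Subgroup.map_inf _ _ f hf, h4, Subgroup.map_bot]
    · rw [← Subgroup.map_sup, h5]

variable {α : Type*} [Fintype α] [DecidableEq α] {P : Sylow 2 (Perm α)}

/-- The even elements of `P`. -/
def evens (P : Sylow 2 (Perm α)) : Subgroup (Perm α) := (P : Subgroup (Perm α)) ⊓ alternatingGroup α

theorem mem_evens {g : Perm α} : g ∈ evens P ↔ g ∈ P ∧ Perm.sign g = 1 :=
  Subgroup.mem_inf.trans (and_congr Iff.rfl Perm.mem_alternatingGroup)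

/-- A nontrivial factor contains a central element. -/
theorem exists_central {A B : Subgroup (Perm α)} (hA : A ≠ ⊥)
    (h : Cfsg.IsInternalDirectProduct A B (evens P)) :
    ∃ c ∈ A, c ≠ 1 ∧ ∀ r ∈ evens P, Commute r c := by
  obtain ⟨h1, h2, h3, -, h5⟩ := h
  haveI : Fact (Nat.Prime 2) := ⟨Nat.prime_two⟩
  haveI : Nontrivial A := (Subgroup.nontrivial_iff_ne_bot A).2 hA
  haveI := (P.isPGroup'.to_le (h1.trans inf_le_left)).center_nontrivial
  obtain ⟨⟨c, hc⟩, hne⟩ := exists_ne (1 : Subgroup.center A)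
  refine ⟨c, c.2, fun e => hne (Subtype.ext (Subtype.ext e)), fun r hr => ?_⟩
  obtain ⟨a, ha, b, hb, rfl⟩ := exists_factor h3 h5 hr
  refine Commute.mul_left ?_ (h3 c c.2 b hb).symm
  exact congrArg Subtype.val (Subgroup.mem_center_iff.1 hc ⟨a, ha⟩)

/-- Parity is corrected by a transposition. -/
theorem fix_parity {p s : Perm α} (hp : p ∈ P) (hs : s ∈ pairs P) :
    p ∈ evens P ∨ p * s ∈ evens P := by
  rcases Int.units_eq_one_or (Perm.sign p) with h | h
  · exact Or.inl (mem_evens.2 ⟨hp, h⟩)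
  · exact Or.inr (mem_evens.2 ⟨mul_mem hp hs.1, by rw [map_mul, h, hs.2.sign_eq]; rfl⟩)

theorem pair_mul_mem {t s : Perm α} (ht : t ∈ pairs P) (hs : s ∈ pairs P) : t * s ∈ evens P :=
  mem_evens.2 ⟨mul_mem ht.1 hs.1, by rw [map_mul, ht.2.sign_eq, hs.2.sign_eq]; rfl⟩

/-- With three transpositions, what is central in the even part is central. -/
theorem central_of_evens (h3 : 3 ≤ Nat.card (pairs P)) {c : Perm α} (hc : c ∈ P)
    (h : ∀ r ∈ evens P, Commute r c) : ∀ p ∈ P, Commute p c := by
  classical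
  haveI : Fintype (pairs P) := Fintype.ofFinite _
  have hpair : ∀ t ∈ pairs P, Commute t c := by
    intro t ht
    have h2 : 1 < (Finset.univ.erase (⟨t, ht⟩ : pairs P)).card := by
      rw [Finset.card_erase_of_mem (Finset.mem_univ _), Finset.card_univ, ← Nat.card_eq_fintype_card]
      change 1 < Nat.card (pairs P) - 1
      omega
    obtain ⟨u, hu, v, hv, huv⟩ := Finset.one_lt_card.mp h2
    have hut : (u : Perm α) ≠ t := fun e => (Finset.mem_erase.mp hu).1 (Subtype.ext e)
    have hvt : (v : Perm α) ≠ t := fun e => (Finset.mem_erase.mp hv).1 (Subtype.ext e)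
    obtain ⟨t', ht'⟩ : ∃ t', c * t * c⁻¹ = t' := ⟨_, rfl⟩
    have ht'p : t' ∈ pairs P := ht' ▸ (le_pairStab hc t).1 ht
    by_contra hne
    have hne' : t' ≠ t := fun e => hne (by
      show t * c = c * t
      rw [← mul_inv_eq_iff_eq_mul.1 (ht'.trans e)])
    have key : ∀ w : pairs P, (w : Perm α) ≠ t → c * w * c⁻¹ = t := by
      intro w hwt
      obtain ⟨w', hw'⟩ : ∃ w', c * (w : Perm α) * c⁻¹ = w' := ⟨_, rfl⟩
      have hw'p : w' ∈ pairs P := hw' ▸ (le_pairStab hc _).1 w.2
      have e : t' * w' = t * w := by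
        rw [← ht', ← hw', show c * t * c⁻¹ * (c * w * c⁻¹) = c * (t * w) * c⁻¹ by group,
          ← (h _ (pair_mul_mem ht w.2)).eq, mul_inv_cancel_right]
      obtain ⟨a, ha⟩ : ∃ a, t a ≠ a := by
        by_contra hh; push Not at hh
        obtain ⟨a, b, hab, rfl⟩ := ht.2
        exact hab (by simpa using (hh a).symm)
      have hwa : (w : Perm α) a = a := (pairs_disjoint ht w.2 hwt.symm a).resolve_left ha
      rw [hw']
      by_contra hw't
      have h1 : t' a = a := (pairs_disjoint ht ht'p hne'.symm a).resolve_left ha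
      have h2 : w' a = a := (pairs_disjoint ht hw'p (Ne.symm hw't) a).resolve_left ha
      have := congrArg (fun g : Perm α => g a) e
      simp only [Perm.mul_apply, h2, h1, hwa] at this
      exact ha this.symm
    exact huv (Subtype.ext (mul_left_cancel (mul_right_cancel ((key u hut).trans (key v hvt).symm))))
  intro p hp
  obtain ⟨t, ht⟩ : (Finset.univ : Finset (pairs P)).Nonempty := Finset.card_pos.1 (by rw [Finset.card_univ, ← Nat.card_eq_fintype_card]; change 0 < Nat.card (pairs P); omega)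
  rcases fix_parity hp t.2 with h1 | h1
  · exact h p h1
  · have : p = p * t * t := by rw [mul_assoc, isSwap_sq t.2.2, mul_one]
    rw [this]
    exact (h _ h1).mul_left (hpair t t.2)

theorem central_fix {c : Perm α} (hc : c ∈ P) {y : α} (hy : ¬ Covered P y) : c y = y :=
  uncovered_unique (fun h => hy ((covered_apply_iff (le_pairStab hc)).1 h)) hy

/-- The restriction of a central element to a large orbit is even. -/
theorem central_even {x : α} (h4 : 4 ∣ (orb P x).card) (hx : Covered P x) {c : Perm α}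
    (hs : Supp (orb P x) c) (hc : ∀ p ∈ P, Commute p c) : Perm.sign c = 1 := by
  rcases central_cases hc hx with hl | hr
  · rw [show c = 1 from Equiv.ext fun y => if hy : y ∈ orb P x then hl y hy else hs y hy, map_one]
  · have hsq : c ^ 2 = 1 := by
      refine Equiv.ext fun y => ?_
      rw [pow_two, Perm.mul_apply, Perm.one_apply]
      by_cases hy : y ∈ orb P x
      · obtain ⟨t, ht, hty, e⟩ := hr y hy
        rw [e, ← Perm.mul_apply c t, ← (hc t ht.1).eq, Perm.mul_apply, e, ← Perm.mul_apply t t, isSwap_sq ht.2, Perm.one_apply]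
      · rw [hs y hy, hs y hy]
    have hsupp : c.support = orb P x := by
      ext y
      rw [Perm.mem_support]
      by_cases hy : y ∈ orb P x
      · obtain ⟨t, ht, hty, e⟩ := hr y hy
        simp [hy, e, hty]
      · simp [hy, hs y hy]
    haveI : Fact (Nat.Prime 2) := ⟨Nat.prime_two⟩
    have hct : ∀ m ∈ c.cycleType, m = 2 := fun m hm => by
      have h1 := (Perm.dvd_of_mem_cycleType hm).trans (orderOf_dvd_of_pow_eq_one hsq)
      have h2 := Perm.two_le_of_mem_cycleType hm
      have := Nat.le_of_dvd (by norm_num) h1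
      omega
    have hrep := Multiset.eq_replicate_card.2 hct
    have hsum := Perm.sum_cycleType c
    rw [hrep, Multiset.sum_replicate, smul_eq_mul, hsupp] at hsum
    rw [Perm.sign_of_cycleType, Perm.sum_cycleType, hsupp]
    refine Even.neg_one_pow ?_
    rw [Nat.even_add, Nat.even_iff, Nat.even_iff]
    obtain ⟨k, hk⟩ := h4
    omega

end CfsgLib.Perm.SylowTwoDecomp
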