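/-
The even part when there is an orbit with two points, or a single orbit.
-/
import Cfsg.Agent.Lib.Perm.SylowTwoDecomp.Central

set_option autoImplicit false

namespace CfsgLib.Perm.SylowTwoDecomp

open Equiv CfsgLib.SylTwoSelf

variable {α : Type*} [Fintype α] [DecidableEq α] {P : Sylow 2 (Perm α)}

theorem Supp.mono {S T : Finset α} (h : S ⊆ T) {g : Perm α} (hg : Supp S g) : Supp T g :=
  fun y hy => hg y fun hs => hy (h hs)

theorem Supp.mul {S : Finset α} {g k : Perm α} (hg : Supp S g) (hk : Supp S k) : Supp S (g * k) :=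
  fun y hy => by rw [Perm.mul_apply, hk y hy, hg y hy]

theorem orb_disjoint {x y z : α} (h : y ∉ orb P x) (hz : z ∈ orb P y) : z ∉ orb P x := fun hzx =>
  h (by rw [← orb_eq hzx, orb_eq hz]; exact mem_orb_self y)

theorem res_eq_one {S T : Finset α} (hS : Inv P S) {g : Perm α} (hg : g ∈ P) (hT : Supp T g)
    (hd : ∀ z ∈ S, z ∉ T) : res S g = 1 := Equiv.ext fun z => by
  rw [res_apply_of hS hg, Perm.one_apply]
  split_ifs with hz
  · exact hT z (hd z hz)
  · rfl

theorem evens_two {z' : Perm α} (hz' : z' ∈ pairs P) {z : α} (h2 : (orb P z).card = 2) (hm : z' z ≠ z) {g : Perm α}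
    (hg : g ∈ P) (hs : Supp (orb P z) g) : g = 1 ∨ g = z' := by
  have hE := orb_eq_pair h2 hz' hm
  have ht := eq_swap_of_moves hz'.2 hm
  have h1 : g z = z ∨ g z = z' z := by simpa [hE] using ((orb_inv z) g hg z).2 (mem_orb_self z)
  have h2' : g (z' z) = z ∨ g (z' z) = z' z := by
    simpa [hE] using ((orb_inv z) g hg (z' z)).2 (by rw [hE]; simp)
  have hout : ∀ y, y ≠ z → y ≠ z' z → g y = y := fun y ha hb => hs y (by rw [hE]; simp [ha, hb])
  rcases h1 with e | e
  · left
    refine Equiv.ext fun y => ?_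
    rw [Perm.one_apply]
    rcases eq_or_ne y z with rfl | ha
    · exact e
    rcases eq_or_ne y (z' z) with rfl | hb
    · exact h2'.resolve_left fun e' => hm (g.injective (e'.trans e.symm))
    · exact hout y ha hb
  · right
    refine Equiv.ext fun y => ?_
    rcases eq_or_ne y z with rfl | ha
    · exact e
    rcases eq_or_ne y (z' z) with rfl | hb
    · rw [h2'.resolve_right fun e' => hm (g.injective (e'.trans e.symm))]
      conv_rhs => arg 1; rw [ht]
      rw [swap_apply_right]
    · rw [hout y ha hb, ht, swap_apply_of_ne_of_ne ha hb]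

theorem two_central {t : Perm α} (ht : t ∈ pairs P) {z : α} (h2 : (orb P z).card = 2) (hm : t z ≠ z)
    {p : Perm α} (hp : p ∈ P) : Commute p t := by
  refine mul_inv_eq_iff_eq_mul.1 (pair_conj ht ht hm ?_ hp rfl)
  have h1 : p z = z ∨ p z = t z := by simpa [orb_eq_pair h2 ht hm] using ((orb_inv z) p hp z).2 (mem_orb_self z)
  rcases h1 with e | e <;> rw [e]
  · exact hm
  · exact fun e' => hm (t.injective e')

/-- Two large orbits and one orbit with two points give a decomposition. -/
theorem decomp_of_split {x y z : α} (hx : 4 ≤ (orb P x).card) (hy : 4 ≤ (orb P y).card) (hxy : y ∉ orb P x)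
    (hz : (orb P z).card = 2) : Decomp (evens P) := by
  obtain ⟨t, ht, htz, -⟩ := exists_pair (covered_of_one_lt (P := P) (x := z) (by omega))
  have hzx : z ∉ orb P x := fun h => by rw [orb_eq h] at hz; omega
  have hzy : z ∉ orb P y := fun h => by rw [orb_eq h] at hz; omega
  have hI := orb_inv (P := P) x
  have hxz : x ∉ orb P z := fun h => hzx (by rw [orb_eq h]; exact mem_orb_self z)
  have hyz : y ∉ orb P z := fun h => hzy (by rw [orb_eq h]; exact mem_orb_self z)
  have htE : Supp (orb P z) t := supp_pair (orb_inv z) ht htz (mem_orb_self z)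
  have hEc : orb P z ⊆ (orb P x)ᶜ := fun w hw => Finset.mem_compl.2 (orb_disjoint hzx hw)
  obtain ⟨s, hs, hsx, -⟩ := exists_pair (covered_of_one_lt (P := P) (x := x) (by omega))
  obtain ⟨s', hs', hsy, -⟩ := exists_pair (covered_of_one_lt (P := P) (x := y) (by omega))
  refine ⟨evens P ⊓ part P (orb P x ∪ orb P z), evens P ⊓ part P (orb P x)ᶜ, ?_, ?_, inf_le_left, inf_le_left,
    ?_, ?_, ?_⟩
  · intro hbot
    have hm : s * t ∈ evens P ⊓ part P (orb P x ∪ orb P z) :=
      ⟨pair_mul_mem hs ht, mul_mem hs.1 ht.1,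
        ((supp_pair hI hs hsx (mem_orb_self x)).mono Finset.subset_union_left).mul (htE.mono Finset.subset_union_right)⟩
    rw [hbot, Subgroup.mem_bot] at hm
    apply hsx
    have := congrArg (fun g : Perm α => g x) hm
    rw [Perm.mul_apply, htE x hxz, Perm.one_apply] at this
    exact this
  · intro hbot
    have hsub : orb P y ⊆ (orb P x)ᶜ := fun w hw => Finset.mem_compl.2 (orb_disjoint hxy hw)
    have hm : s' * t ∈ evens P ⊓ part P (orb P x)ᶜ :=
      ⟨pair_mul_mem hs' ht, mul_mem hs'.1 ht.1,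
        ((supp_pair (orb_inv y) hs' hsy (mem_orb_self y)).mono hsub).mul (htE.mono hEc)⟩
    rw [hbot, Subgroup.mem_bot] at hm
    apply hsy
    have := congrArg (fun g : Perm α => g y) hm
    rw [Perm.mul_apply, htE y hyz, Perm.one_apply] at this
    exact this
  · rintro a ⟨-, haP, haS⟩ b ⟨-, hbP, hbS⟩
    have h1 : Supp (orb P z) (res (orb P x)ᶜ a) := fun w hw => by
      rw [res_apply_of (inv_compl hI) haP]
      split_ifs with hwc
      · exact haS w (by rw [Finset.mem_union, not_or]; exact ⟨Finset.mem_compl.1 hwc, hw⟩)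
      · rfl
    have h2 : Commute (res (orb P x) a) b := by
      conv => arg 2; rw [← res_eq_self (inv_compl hI) hbP hbS]
      exact res_commute_compl hI haP hbP
    have h3 : Commute (res (orb P x)ᶜ a) b := by
      rcases evens_two ht hz htz (res_mem (inv_compl hI) haP) h1 with e | e <;> rw [e]
      · exact Commute.one_left b
      · exact (two_central ht hz htz hbP).symm
    have h4 := h2.mul_left h3
    rwa [res_mul_compl hI haP] at h4
  · rw [eq_bot_iff]
    rintro g ⟨⟨hge, -, hgS⟩, -, hgP, hgT⟩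
    have h1 : Supp (orb P z) g := fun w hw => by
      by_cases hwx : w ∈ orb P x
      · exact hgT w (by simpa using hwx)
      · exact hgS w (by simp [hw, hwx])
    rcases evens_two ht hz htz hgP h1 with e | e
    · exact Subgroup.mem_bot.2 e
    · exfalso
      have := (mem_evens.1 hge).2
      rw [e, ht.2.sign_eq] at this
      exact absurd this (by decide)
  · refine le_antisymm (sup_le inf_le_left inf_le_left) fun r hr => ?_
    obtain ⟨hrP, hre⟩ := mem_evens.1 hr
    have ha : res (orb P x) r ∈ P := res_mem hI hrP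
    have hb : res (orb P x)ᶜ r ∈ P := res_mem (inv_compl hI) hrP
    have hsa := (supp_res hI hrP).mono (Finset.subset_union_left (s₂ := orb P z))
    have hsb := supp_res (inv_compl hI) hrP
    have he : Perm.sign (res (orb P x) r) * Perm.sign (res (orb P x)ᶜ r) = 1 := by
      rw [← map_mul, res_mul_compl hI hrP, hre]
    rw [← res_mul_compl hI hrP]
    rcases Int.units_eq_one_or (Perm.sign (res (orb P x) r)) with h | h
    · rw [h, one_mul] at he
      exact Subgroup.mul_mem_sup ⟨mem_evens.2 ⟨ha, h⟩, ha, hsa⟩ ⟨mem_evens.2 ⟨hb, he⟩, hb, hsb⟩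
    · have he' : Perm.sign (res (orb P x)ᶜ r) = -1 := by
        rw [h] at he
        rcases Int.units_eq_one_or (Perm.sign (res (orb P x)ᶜ r)) with h' | h'
        · rw [h'] at he; exact absurd he (by decide)
        · exact h'
      rw [show res (orb P x) r * res (orb P x)ᶜ r = (res (orb P x) r * t) * (t * res (orb P x)ᶜ r) by
        rw [← mul_assoc, mul_assoc _ t t, isSwap_sq ht.2, mul_one]]
      exact Subgroup.mul_mem_sup
        ⟨mem_evens.2 ⟨mul_mem ha ht.1, by rw [map_mul, h, ht.2.sign_eq]; rfl⟩, mul_mem ha ht.1,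
          hsa.mul (htE.mono Finset.subset_union_right)⟩
        ⟨mem_evens.2 ⟨mul_mem ht.1 hb, by rw [map_mul, he', ht.2.sign_eq]; rfl⟩, mul_mem ht.1 hb,
          (htE.mono hEc).mul hsb⟩

/-- One large orbit and one orbit with two points: no decomposition. -/
theorem not_decomp_big {x z : α} (hb : big P = orb P x) (h4 : 4 ≤ (orb P x).card) (hz : (orb P z).card = 2) :
    ¬ Decomp (evens P) := by
  rintro ⟨A, B, hA, hB, h⟩
  obtain ⟨t, ht, htz, -⟩ := exists_pair (covered_of_one_lt (P := P) (x := z) (by omega))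
  have hI := orb_inv (P := P) x
  have hzx : z ∉ orb P x := fun h => by rw [orb_eq h] at hz; omega
  have htO : res (orb P x) t = 1 := res_eq_one hI ht.1 (supp_pair (orb_inv z) ht htz (mem_orb_self z))
    fun w hw hwz => orb_disjoint hzx hwz hw
  have inj : ∀ g ∈ evens P, res (orb P x) g = 1 → g = 1 := by
    intro g hg hres
    obtain ⟨hgP, hge⟩ := mem_evens.1 hg
    have hs : Supp (orb P z) g := fun w hw => by
      by_cases hwx : w ∈ orb P x
      · rw [← res_apply_mem hI hgP hwx, hres, Perm.one_apply]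
      · rw [← hb, mem_big, not_le] at hwx
        rcases card_orb_cases (P := P) w with ⟨hu, -⟩ | ⟨-, h2⟩ | ⟨-, h4', -⟩
        · exact central_fix hgP hu
        · exact absurd (two_unique hz h2) hw
        · omega
    rcases evens_two ht hz htz hgP hs with e | e
    · exact e
    · rw [e, ht.2.sign_eq] at hge
      exact absurd hge (by decide)
  have surj : ∀ p ∈ P, ∃ r ∈ evens P, res (orb P x) r = res (orb P x) p := by
    intro p hp
    rcases fix_parity hp ht with h1 | h1
    · exact ⟨p, h1, rfl⟩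
    · exact ⟨_, h1, by rw [res_mul hI hp ht.1, htO, mul_one]⟩
  have mk : ∀ {A B : Subgroup (Perm α)}, A ≠ ⊥ → Cfsg.IsInternalDirectProduct A B (evens P) →
      ∃ c ∈ A, c ∈ evens P ∧ c ≠ 1 ∧ res (orb P x) c ≠ 1 ∧ ∀ p ∈ P, Commute p (res (orb P x) c) := by
    intro A B hA h
    obtain ⟨c, hcA, hc1, hcc⟩ := exists_central hA h
    have hce := h.1 hcA
    refine ⟨c, hcA, hce, hc1, fun e => hc1 (inj c hce e), fun p hp => ?_⟩
    refine (commute_of_res hI (res_mem hI hce.1) hp (supp_res hI hce.1) ?_).symm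
    obtain ⟨r, hr, er⟩ := surj p hp
    rw [← er]
    show _ * _ = _ * _
    rw [← res_mul hI hce.1 hr.1, ← res_mul hI hr.1 hce.1, (hcc r hr).eq]
  obtain ⟨c, hcA, hce, hc1, hc', hcc⟩ := mk hA h
  obtain ⟨d, hdB, hde, hd1, hd', hdc⟩ := mk hB ⟨h.2.1, h.1, fun b hb a ha => (h.2.2.1 a ha b hb).symm,
    inf_comm B A ▸ h.2.2.2.1, sup_comm B A ▸ h.2.2.2.2⟩
  have e := eq_of_central rfl (covered_of_one_lt (by omega)) hcc hdc hc' hd'
    (supp_res hI hce.1) (supp_res hI hde.1)
  have hcd : c⁻¹ * d = 1 := by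
    refine inj _ (mul_mem (inv_mem hce) hde) ?_
    have := map_mul (resHom hI) (⟨c, hce.1⟩⁻¹ : (P : Subgroup (Perm α))) ⟨d, hde.1⟩
    rw [map_inv] at this
    refine this.trans ?_
    show (res (orb P x) c)⁻¹ * res (orb P x) d = 1
    rw [e, inv_mul_cancel]
  have : d = c := (inv_mul_eq_one.1 hcd).symm
  exact hc1 ((Subgroup.mem_bot).1 (h.2.2.2.1.le ⟨hcA, this ▸ hdB⟩))

/-- A single orbit on the covered points: no decomposition. -/
theorem not_decomp_single {x : α} (hx : Covered P x) (h3 : 3 ≤ Nat.card (pairs P))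
    (hall : ∀ y, Covered P y → y ∈ orb P x) : ¬ Decomp (evens P) := by
  rintro ⟨A, B, hA, hB, h⟩
  obtain ⟨c, hcA, hc1, hcc⟩ := exists_central hA h
  obtain ⟨d, hdB, hd1, hdc⟩ := exists_central hB
    (⟨h.2.1, h.1, fun b hb a ha => (h.2.2.1 a ha b hb).symm,
      inf_comm B A ▸ h.2.2.2.1, sup_comm B A ▸ h.2.2.2.2⟩ : Cfsg.IsInternalDirectProduct B A (evens P))
  have hcP : c ∈ P := (h.1 hcA).1
  have hdP : d ∈ P := (h.2.1 hdB).1
  have e := eq_of_central rfl hx (central_of_evens h3 hcP hcc) (central_of_evens h3 hdP hdc) hc1 hd1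
    (fun y hy => central_fix hcP fun hc => hy (hall y hc)) (fun y hy => central_fix hdP fun hc => hy (hall y hc))
  exact hc1 ((Subgroup.mem_bot).1 (h.2.2.2.1.le ⟨hcA, e ▸ hdB⟩))

end CfsgLib.Perm.SylowTwoDecomp
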