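/-
The even part when there are several large orbits and no orbit with two points.
-/
import Cfsg.Agent.Lib.Perm.SylowTwoDecomp.OneBig

set_option autoImplicit false

namespace CfsgLib.Perm.SylowTwoDecomp

open Equiv CfsgLib.SylTwoSelf

variable {α : Type*} [Fintype α] [DecidableEq α] {P : Sylow 2 (Perm α)} {A B : Subgroup (Perm α)}

/-- The restrictions of `A` to the orbit of `x` are central. -/
def CentralAt (P : Sylow 2 (Perm α)) (A : Subgroup (Perm α)) (x : α) : Prop :=
  ∀ a ∈ A, ∀ p ∈ P, Commute p (res (orb P x) a)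

theorem exists_outside (hsev : ∀ x, Covered P x → ∃ y, Covered P y ∧ y ∉ orb P x) {x : α} (hx : Covered P x) :
    ∃ s ∈ pairs P, Supp (orb P x)ᶜ s := by
  obtain ⟨y, hy, hyx⟩ := hsev x hx
  obtain ⟨s, hs, hsy, -⟩ := exists_pair hy
  exact ⟨s, hs, supp_pair (inv_compl (orb_inv x)) hs hsy (Finset.mem_compl.2 hyx)⟩

theorem res_outside {x : α} {s : Perm α} (hs : s ∈ P) (h : Supp (orb P x)ᶜ s) : res (orb P x) s = 1 :=
  res_eq_one (orb_inv x) hs h fun _ hz => by simpa using hz

theorem central_or (hno : ∀ x, Covered P x → 4 ≤ (orb P x).card)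
    (hsev : ∀ x, Covered P x → ∃ y, Covered P y ∧ y ∉ orb P x)
    (h : Cfsg.IsInternalDirectProduct A B (evens P)) {x : α} (hx : Covered P x) :
    (CentralAt P A x ∨ CentralAt P B x) ∧ ¬ (CentralAt P A x ∧ CentralAt P B x) := by
  obtain ⟨h1, h2, hc, -, h5⟩ := h
  have hI := orb_inv (P := P) x
  obtain ⟨s, hs, hso⟩ := exists_outside hsev hx
  let img : Subgroup (Perm α) → Subgroup (Perm α) := fun A => (A.subgroupOf P).map (resHom hI)
  have himg : ∀ {A : Subgroup (Perm α)}, A ≤ evens P → ∀ g, g ∈ img A ↔ ∃ a ∈ A, res (orb P x) a = g := by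
    intro A hA g
    constructor
    · rintro ⟨a, ha, rfl⟩
      exact ⟨a.1, ha, rfl⟩
    · rintro ⟨a, ha, rfl⟩
      exact ⟨⟨a, (hA ha).1⟩, ha, rfl⟩
  have hle : ∀ {A : Subgroup (Perm α)}, A ≤ evens P → img A ≤ part P (orb P x) := fun hA g hg => by
    obtain ⟨a, ha, rfl⟩ := (himg hA g).1 hg
    exact ⟨res_mem hI (hA ha).1, supp_res hI (hA ha).1⟩
  have hcomm : ∀ a ∈ img A, ∀ b ∈ img B, Commute a b := fun a ha b hb => by
    obtain ⟨a', ha', rfl⟩ := (himg h1 a).1 ha
    obtain ⟨b', hb', rfl⟩ := (himg h2 b).1 hb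
    show _ * _ = _ * _
    rw [← res_mul hI (h1 ha').1 (h2 hb').1, ← res_mul hI (h2 hb').1 (h1 ha').1, hc a' ha' b' hb']
  have hprod : ∀ p ∈ P, ∃ a ∈ img A, ∃ b ∈ img B, res (orb P x) p = a * b := by
    intro p hp
    obtain ⟨r, hr, er⟩ : ∃ r ∈ evens P, res (orb P x) r = res (orb P x) p := by
      rcases fix_parity hp hs with h | h
      · exact ⟨p, h, rfl⟩
      · exact ⟨_, h, by rw [res_mul hI hp hs.1, res_outside hs.1 hso, mul_one]⟩
    obtain ⟨a, ha, b, hb, rfl⟩ := exists_factor hc h5 hr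
    exact ⟨_, (himg h1 _).2 ⟨a, ha, rfl⟩, _, (himg h2 _).2 ⟨b, hb, rfl⟩,
      by rw [← er, res_mul hI (h1 ha).1 (h2 hb).1]⟩
  refine ⟨?_, ?_⟩
  · rcases central_factor (hno x hx) (hle h1) (hle h2) hcomm hprod with hcen | hcen
    · exact Or.inl fun a ha => hcen _ ((himg h1 _).2 ⟨a, ha, rfl⟩)
    · exact Or.inr fun b hb => hcen _ ((himg h2 _).2 ⟨b, hb, rfl⟩)
  · rintro ⟨hA', hB'⟩
    refine not_both_central (hno x hx) (fun g hg => ?_) (fun g hg => ?_) hprod
    · obtain ⟨a, ha, rfl⟩ := (himg h1 g).1 hg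
      exact hA' a ha
    · obtain ⟨b, hb, rfl⟩ := (himg h2 g).1 hg
      exact hB' b hb

theorem centralAt_congr {x y : α} (h : y ∈ orb P x) : CentralAt P A y ↔ CentralAt P A x := by
  rw [CentralAt, CentralAt, orb_eq h]

/-- The two factors cannot both be central somewhere. -/
theorem not_mixed (hno : ∀ x, Covered P x → 4 ∣ (orb P x).card)
    (hor : ∀ x, Covered P x → (CentralAt P A x ∨ CentralAt P B x) ∧ ¬ (CentralAt P A x ∧ CentralAt P B x))
    (h : Cfsg.IsInternalDirectProduct A B (evens P)) {x₁ x₂ : α} (hx₁ : Covered P x₁) (hx₂ : Covered P x₂)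
    (hA : CentralAt P A x₁) (hB : CentralAt P B x₂) : False := by
  obtain ⟨h1, h2, hc, -, h5⟩ := h
  obtain ⟨t₁, ht₁, hm₁, -⟩ := exists_pair hx₁
  obtain ⟨t₂, ht₂, hm₂, -⟩ := exists_pair hx₂
  obtain ⟨a, ha, b, hb, hab⟩ := exists_factor hc h5 (pair_mul_mem ht₁ ht₂)
  obtain ⟨haP, hae⟩ := mem_evens.1 (h1 ha)
  obtain ⟨hbP, -⟩ := mem_evens.1 (h2 hb)
  have hgP : a * t₂ ∈ P := mul_mem haP ht₂.1
  have key : a * t₂ ∈ alternatingGroup α := by
    refine even_of_res_orb hgP fun y hy => ?_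
    have hcy : Covered P y := by_contra fun hu => hy (central_fix hgP hu)
    have hI := orb_inv (P := P) y
    have heven : ∀ {C : Subgroup (Perm α)}, C ≤ evens P → CentralAt P C y → ∀ c ∈ C,
        Perm.sign (res (orb P y) c) = 1 := fun hC hcen c hc' =>
      central_even (hno y hcy) hcy (supp_res hI (hC hc').1) (hcen c hc')
    rw [Perm.mem_alternatingGroup, res_mul hI haP ht₂.1, map_mul]
    rcases (hor y hcy).1 with hcA | hcB
    · have hy2 : y ∉ orb P x₂ := fun hm => (hor x₂ hx₂).2 ⟨(centralAt_congr hm).1 hcA, hB⟩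
      rw [heven h1 hcA a ha, res_eq_one hI ht₂.1 (supp_pair (orb_inv x₂) ht₂ hm₂ (mem_orb_self x₂))
        (fun z hz => orb_disjoint hy2 hz), map_one, one_mul]
    · have hy1 : y ∉ orb P x₁ := fun hm => (hor x₁ hx₁).2 ⟨hA, (centralAt_congr hm).1 hcB⟩
      have e := congrArg (fun g => Perm.sign (res (orb P y) g)) hab
      rw [res_mul hI ht₁.1 ht₂.1, res_mul hI haP hbP, map_mul, map_mul, heven h2 hcB b hb,
        res_eq_one hI ht₁.1 (supp_pair (orb_inv x₁) ht₁ hm₁ (mem_orb_self x₁))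
        (fun z hz => orb_disjoint hy1 hz), map_one, one_mul, mul_one] at e
      rw [← e, Int.units_mul_self]
  rw [Perm.mem_alternatingGroup, map_mul, hae, ht₂.2.sign_eq] at key
  exact absurd key (by decide)

/-- One factor cannot be central on all orbits. -/
theorem not_all_central (hno : ∀ x, Covered P x → 4 ∣ (orb P x).card)
    (hsev : ∀ x, Covered P x → ∃ y, Covered P y ∧ y ∉ orb P x)
    (h : Cfsg.IsInternalDirectProduct A B (evens P)) (hall : ∀ x, Covered P x → CentralAt P B x) : B = ⊥ := by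
  obtain ⟨h1, h2, hc, h4, h5⟩ := h
  have hcen : ∀ b ∈ B, ∀ p ∈ P, Commute p b := by
    intro b hb
    have hbP := (h2 hb).1
    have : b ∈ Subgroup.centralizer ((P : Subgroup (Perm α)) : Set (Perm α)) := by
      refine of_res_orb _ hbP fun y hy => ?_
      have hcy : Covered P y := by_contra fun hu => hy (central_fix hbP hu)
      exact Subgroup.mem_centralizer_iff.2 fun p hp => (hall y hcy b hb p hp).eq
    exact fun p hp => Subgroup.mem_centralizer_iff.1 this p hp
  have hcomm : ∀ r ∈ evens P, ∀ r' ∈ evens P, r * r' * r⁻¹ * r'⁻¹ ∈ A := by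
    intro r hr r' hr'
    obtain ⟨a, ha, b, hb, rfl⟩ := exists_factor hc h5 hr
    obtain ⟨a', ha', b', hb', rfl⟩ := exists_factor hc h5 hr'
    have e : a * b * (a' * b') * (a * b)⁻¹ * (a' * b')⁻¹ = a * a' * a⁻¹ * a'⁻¹ := by
      have e1 := (hcen b hb _ (mul_mem (h1 ha').1 (h2 hb').1)).symm.eq
      have e2 := (hc _ (inv_mem ha) b' hb')
      calc a * b * (a' * b') * (a * b)⁻¹ * (a' * b')⁻¹
          = a * (b * (a' * b')) * b⁻¹ * a⁻¹ * (b'⁻¹ * a'⁻¹) := by group
        _ = a * ((a' * b') * b) * b⁻¹ * a⁻¹ * (b'⁻¹ * a'⁻¹) := by rw [e1]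
        _ = a * a' * (b' * a⁻¹) * b'⁻¹ * a'⁻¹ := by group
        _ = a * a' * (a⁻¹ * b') * b'⁻¹ * a'⁻¹ := by rw [e2]
        _ = _ := by group
    rw [e]
    exact mul_mem (mul_mem (mul_mem ha ha') (inv_mem ha)) (inv_mem ha')
  have hpp : ∀ {x z : α} {t u : Perm α}, t ∈ pairs P → u ∈ pairs P → t x ≠ x → u z ≠ z → z ∈ orb P x →
      u * t ∈ A := by
    intro x z t u ht hu htx huz hz
    have hI := orb_inv (P := P) x
    obtain ⟨w, hw, hwx⟩ := mem_orb.1 hz
    obtain ⟨s, hs, hso⟩ := exists_outside hsev (⟨t, ht, htx⟩ : Covered P x)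
    obtain ⟨w0, hw0⟩ : ∃ w0, w0 = res (orb P x) w := ⟨_, rfl⟩
    have hw0P : w0 ∈ P := hw0 ▸ res_mem hI hw
    have econj : w0 * t * w0⁻¹ = u := pair_conj ht hu htx huz hw0P
      (by rw [hw0, res_apply_mem hI hw (mem_orb_self x), hwx])
    have csw : Commute w0 s := by
      have := res_commute_compl hI hw hs.1
      rwa [res_eq_self (inv_compl hI) hs.1 hso, ← hw0] at this
    have cst : Commute t s := by
      have := res_commute_compl hI ht.1 hs.1
      rwa [res_eq_self (inv_compl hI) hs.1 hso, res_eq_self hI ht.1 (supp_pair hI ht htx (mem_orb_self x))] at this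
    have csts : s * (t * s) * s⁻¹ = t * s := by
      rw [← mul_assoc, ← cst.eq, mul_inv_cancel_right]
    have key : w0 * (t * s) * w0⁻¹ * (t * s)⁻¹ = u * t := by
      calc w0 * (t * s) * w0⁻¹ * (t * s)⁻¹ = w0 * t * (s * w0⁻¹) * s⁻¹ * t⁻¹ := by group
        _ = w0 * t * (w0⁻¹ * s) * s⁻¹ * t⁻¹ := by rw [(csw.inv_left).eq]
        _ = (w0 * t * w0⁻¹) * t⁻¹ := by group
        _ = u * t := by rw [econj, inv_eq_of_mul_eq_one_right (isSwap_sq ht.2)]
    rcases fix_parity hw0P hs with h | h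
    · exact key ▸ hcomm _ h _ (pair_mul_mem ht hs)
    · have e : w0 * s * (t * s) * (w0 * s)⁻¹ = w0 * (t * s) * w0⁻¹ := by
        calc w0 * s * (t * s) * (w0 * s)⁻¹ = w0 * (s * (t * s) * s⁻¹) * w0⁻¹ := by group
          _ = _ := by rw [csts]
      have := hcomm _ h _ (pair_mul_mem ht hs)
      rwa [e, key] at this
  rw [eq_bot_iff]
  intro b hb
  rw [← h4]
  refine ⟨?_, hb⟩
  have hbP := (h2 hb).1
  refine of_res_orb A hbP fun x hxm => ?_
  have hcx : Covered P x := by_contra fun hu => hxm (central_fix hbP hu)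
  have hI := orb_inv (P := P) x
  obtain ⟨t0, ht0, ht0x, -⟩ := exists_pair hcx
  suffices hind : ∀ (m : ℕ) (g : Perm α), g.support.card = m →
      (∀ z, g z ≠ z → z ∈ orb P x ∧ ∃ t ∈ pairs P, t z ≠ z ∧ g z = t z) →
      (Perm.sign g = 1 → g ∈ A) ∧ (Perm.sign g = -1 → g * t0 ∈ A) by
    refine (hind _ (res (orb P x) b) rfl fun z hz => ?_).1
      (central_even (hno x hcx) hcx (supp_res hI hbP) (hall x hcx b hb))
    have hzO : z ∈ orb P x := by_contra fun hn => hz (res_apply_not_mem hI hbP hn)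
    rcases central_cases (hall x hcx b hb) hcx with hl | hr
    · exact absurd (hl z hzO) hz
    · exact ⟨hzO, hr z hzO⟩
  intro m
  induction m using Nat.strong_induction_on with
  | _ m ih =>
    intro g hm hg
    by_cases h0 : ∃ z, g z ≠ z
    · obtain ⟨z, hz⟩ := h0
      obtain ⟨hzO, t, ht, htz, etz⟩ := hg z hz
      have hgt : g (t z) = z := by
        have hmv : g (t z) ≠ t z := fun e => htz (g.injective (e.trans etz.symm))
        obtain ⟨-, t', ht', htz', etz'⟩ := hg _ hmv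
        have : t' = t := pairs_eq_of_moves ht' ht htz' (fun e => htz (t.injective e))
        rw [etz', this, ← Perm.mul_apply t t, isSwap_sq ht.2, Perm.one_apply]
      have hfix : ∀ v, (g * t) v ≠ v → t v = v := by
        intro v hv
        by_contra htv
        apply hv
        rw [Perm.mul_apply]
        rcases eq_or_ne v z with rfl | h1
        · exact hgt
        rcases eq_or_ne v (t z) with rfl | h2
        · rw [← Perm.mul_apply t t, isSwap_sq ht.2, Perm.one_apply, etz]
        · exact absurd (by rw [eq_swap_of_moves ht.2 htz, swap_apply_of_ne_of_ne h1 h2]) htv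
      have hlt : (g * t).support.card < m := by
        rw [← hm]
        refine Finset.card_lt_card (Finset.ssubset_iff_of_subset (fun v hv => ?_) |>.2 ⟨z, ?_, ?_⟩)
        · rw [Perm.mem_support] at hv ⊢
          rwa [Perm.mul_apply, hfix v hv] at hv
        · exact Perm.mem_support.2 hz
        · rw [Perm.mem_support, not_not, Perm.mul_apply, hgt]
      obtain ⟨i1, i2⟩ := ih _ hlt (g * t) rfl fun v hv => by
        have e := hfix v hv
        rw [Perm.mul_apply, e] at hv ⊢
        exact hg v hv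
      have hts : Perm.sign (g * t) = Perm.sign g * -1 := by rw [map_mul, ht.2.sign_eq]
      have m1 : t * t0 ∈ A := hpp ht0 ht ht0x htz hzO
      have m2 : t0 * t ∈ A := by
        have := A.inv_mem m1
        rwa [mul_inv_rev, inv_eq_of_mul_eq_one_right (isSwap_sq ht.2),
          inv_eq_of_mul_eq_one_right (isSwap_sq ht0.2)] at this
      refine ⟨fun hs => ?_, fun hs => ?_⟩
      · have := A.mul_mem (i2 (by rw [hts, hs, one_mul])) m2
        rwa [← mul_assoc, mul_assoc _ t0 t0, isSwap_sq ht0.2, mul_one, mul_assoc, isSwap_sq ht.2,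
          mul_one] at this
      · have := A.mul_mem (i1 (by rw [hts, hs]; rfl)) m1
        rwa [← mul_assoc, mul_assoc g t t, isSwap_sq ht.2, mul_one] at this
    · push Not at h0
      rw [show g = 1 from Equiv.ext h0]
      exact ⟨fun _ => A.one_mem, fun h => absurd h (by rw [map_one]; decide)⟩

theorem not_decomp_several (hno : ∀ x, Covered P x → 4 ≤ (orb P x).card ∧ 4 ∣ (orb P x).card)
    (hsev : ∀ x, Covered P x → ∃ y, Covered P y ∧ y ∉ orb P x) : ¬ Decomp (evens P) := by
  rintro ⟨A, B, hA, hB, h⟩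
  have h' : Cfsg.IsInternalDirectProduct B A (evens P) := ⟨h.2.1, h.1, fun b hb a ha => (h.2.2.1 a ha b hb).symm,
    inf_comm B A ▸ h.2.2.2.1, sup_comm B A ▸ h.2.2.2.2⟩
  have hor := fun x (hx : Covered P x) => central_or (fun y hy => (hno y hy).1) hsev h hx
  by_cases hex : ∃ x, Covered P x ∧ CentralAt P A x
  · obtain ⟨x, hx, hxA⟩ := hex
    refine hA (not_all_central (fun y hy => (hno y hy).2) hsev h' fun y hy => ?_)
    exact (hor y hy).1.resolve_right fun hyB => not_mixed (fun y hy => (hno y hy).2) hor h hx hy hxA hyB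
  · refine hB (not_all_central (fun y hy => (hno y hy).2) hsev h fun y hy => ?_)
    exact (hor y hy).1.resolve_left fun hyA => hex ⟨y, hy, hyA⟩

end CfsgLib.Perm.SylowTwoDecomp
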