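/-
When a Sylow 2-subgroup of an alternating group is a nontrivial direct product.
-/
import Cfsg.Agent.Lib.Perm.SylowTwoDecomp.Several

set_option autoImplicit false

namespace CfsgLib.Perm.SylowTwoDecomp

open Equiv CfsgLib.SylTwoSelf

theorem decomp_evens_iff {α : Type*} [Fintype α] [DecidableEq α] (P : Sylow 2 (Perm α))
    (h4 : 4 ≤ Fintype.card α) (h45 : Fintype.card α ≠ 4 ∧ Fintype.card α ≠ 5) :
    Decomp (evens P) ↔ ((Fintype.card α % 4 = 2 ∨ Fintype.card α % 4 = 3) ∧
      ∀ r : ℕ, 4 * (Fintype.card α / 4) ≠ 2 ^ r) := by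
  by_cases he : Fintype.card α % 4 = 2 ∨ Fintype.card α % 4 = 3
  · obtain ⟨z, hz⟩ := (exists_two_iff (P := P)).2 he
    by_cases hr : ∃ r : ℕ, 4 * (Fintype.card α / 4) = 2 ^ r
    · obtain ⟨x, hb, hx⟩ := (big_one_iff (P := P) h4).2 hr
      exact iff_of_false (not_decomp_big hb hx hz) fun h => h.2 _ hr.choose_spec
    · refine iff_of_true ?_ ⟨he, fun r e => hr ⟨r, e⟩⟩
      obtain ⟨x, hx⟩ : (big P).Nonempty := Finset.card_pos.1 (by have := card_big (P := P); omega)
      have hne : orb P x ≠ big P := fun e => hr ((big_one_iff (P := P) h4).1 ⟨x, e.symm, mem_big.1 hx⟩)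
      obtain ⟨y, hy, hyx⟩ := Finset.exists_of_ssubset ((orb_subset big_inv hx).ssubset_of_ne hne)
      exact decomp_of_split (mem_big.1 hx) (mem_big.1 hy) hyx hz
  · refine iff_of_false ?_ fun h => he h.1
    have hno : ∀ x, Covered P x → 4 ≤ (orb P x).card ∧ 4 ∣ (orb P x).card := fun x hx => by
      rcases card_orb_cases (P := P) x with ⟨h, -⟩ | ⟨-, h⟩ | ⟨-, h, h'⟩
      · exact absurd hx h
      · exact absurd ((exists_two_iff (P := P)).1 ⟨x, h⟩) he
      · exact ⟨h, h'⟩
    by_cases hsev : ∀ x, Covered P x → ∃ y, Covered P y ∧ y ∉ orb P x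
    · exact not_decomp_several hno hsev
    · push Not at hsev
      obtain ⟨x, hx, hall⟩ := hsev
      haveI : Nonempty α := ⟨x⟩
      have := card_le_two_pairs (P := P)
      exact not_decomp_single hx (by omega) hall

/-- Order four groups in the alternating groups of degree at most five are direct products. -/
theorem decomp_small {n : ℕ} (hn : n = 4 ∨ n = 5) (R : Sylow 2 (alternatingGroup (Fin n))) :
    Decomp (R : Subgroup (alternatingGroup (Fin n))) := by
  haveI : Fact (Nat.Prime 2) := ⟨Nat.prime_two⟩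
  haveI : Nontrivial (Fin n) := Fin.nontrivial_iff_two_le.2 (by omega)
  have hcard : Nat.card (R : Subgroup (alternatingGroup (Fin n))) = 4 := by
    have h2 := two_mul_card_alternatingGroup (α := Fin n)
    rw [Fintype.card_perm, Fintype.card_fin, ← Nat.card_eq_fintype_card] at h2
    have h60 : Nat.card (alternatingGroup (Fin n)) = 4 * 3 ∨ Nat.card (alternatingGroup (Fin n)) = 4 * 15 := by
      rcases hn with rfl | rfl <;> norm_num [Nat.factorial] at h2 ⊢ <;> omega
    have hdvd : 4 ∣ Nat.card (R : Subgroup (alternatingGroup (Fin n))) :=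
      R.pow_dvd_card_of_pow_dvd_card (n := 2) (by rcases h60 with h | h <;> rw [h] <;> norm_num)
    obtain ⟨k, hk⟩ := IsPGroup.iff_card.1 R.isPGroup'
    have hdvd' : 2 ^ k ∣ Nat.card (alternatingGroup (Fin n)) := hk ▸ Subgroup.card_subgroup_dvd_card _
    have hk2 : k ≤ 2 := by
      by_contra hc
      have h8 : 2 ^ 3 ∣ Nat.card (alternatingGroup (Fin n)) := (Nat.pow_dvd_pow 2 (by omega)).trans hdvd'
      rcases h60 with h | h <;> rw [h] at h8 <;> revert h8 <;> decide
    rw [hk] at hdvd ⊢
    interval_cases k <;> revert hdvd <;> norm_num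
  have hsq : ∀ g ∈ (R : Subgroup (alternatingGroup (Fin n))), g * g = 1 := by
    intro g hg
    by_contra hne
    have h4 : g ^ 4 = 1 := by
      have := pow_card_eq_one' (x := (⟨g, hg⟩ : (R : Subgroup (alternatingGroup (Fin n)))))
      rw [hcard] at this
      exact congrArg Subtype.val this
    have ho : orderOf (g : Perm (Fin n)) = 2 ^ 2 := orderOf_eq_prime_pow
      (by rw [pow_one, pow_two]; exact fun e => hne (Subtype.ext e))
      (by rw [show 2 ^ (1 + 1) = 4 from rfl]; exact congrArg Subtype.val h4)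
    have hmem : 4 ∈ (g : Perm (Fin n)).cycleType := by
      by_contra h4'
      apply hne
      refine Subtype.ext ?_
      show (g : Perm (Fin n)) * g = 1
      rw [← pow_two, ← orderOf_dvd_iff_pow_eq_one, ← Perm.lcm_cycleType, Multiset.lcm_dvd]
      intro m hm
      have h1 : m ∣ 2 ^ 2 := ho ▸ Perm.dvd_of_mem_cycleType hm
      have h2 := Perm.two_le_of_mem_cycleType hm
      have := Nat.le_of_dvd (by norm_num) h1
      interval_cases m
      · exact dvd_rfl
      · exact absurd h1 (by norm_num)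
      · exact absurd hm h4'
    obtain ⟨rest, hrest⟩ := Multiset.exists_cons_of_mem hmem
    have hs := Perm.sum_cycleType (g : Perm (Fin n))
    rw [hrest, Multiset.sum_cons] at hs
    have hle := Finset.card_le_univ (g : Perm (Fin n)).support
    rw [Fintype.card_fin] at hle
    have h0 : rest = 0 := Multiset.eq_zero_of_forall_notMem fun m hm => by
      have h2 := Perm.two_le_of_mem_cycleType (σ := (g : Perm (Fin n))) (by rw [hrest]; exact Multiset.mem_cons_of_mem hm)
      have := Multiset.le_sum_of_mem hm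
      omega
    have hsign := Perm.mem_alternatingGroup.1 g.2
    rw [Perm.sign_of_cycleType, hrest, h0] at hsign
    exact absurd hsign (by decide)
  obtain ⟨⟨a, ha⟩, hane⟩ : ∃ a : (R : Subgroup (alternatingGroup (Fin n))), a ≠ 1 := by
    haveI := Finite.one_lt_card_iff_nontrivial.1 (hcard ▸ (by norm_num : 1 < 4))
    exact exists_ne 1
  have ha1 : a ≠ 1 := fun e => hane (Subtype.ext e)
  have hzc : ∀ g ∈ (R : Subgroup (alternatingGroup (Fin n))), g ≠ 1 → Nat.card (Subgroup.zpowers g) = 2 :=
    fun g hg h1 => by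
      rw [Nat.card_zpowers]
      exact orderOf_eq_prime (by rw [pow_two]; exact hsq g hg) h1
  obtain ⟨b, hb, hba⟩ : ∃ b ∈ (R : Subgroup (alternatingGroup (Fin n))), b ∉ Subgroup.zpowers a := by
    by_contra hc
    push Not at hc
    have := Subgroup.card_le_of_le (hc : (R : Subgroup (alternatingGroup (Fin n))) ≤ Subgroup.zpowers a)
    rw [hcard, hzc a ha ha1] at this
    omega
  have hb1 : b ≠ 1 := fun e => hba (e ▸ one_mem _)
  have hA : Subgroup.zpowers a ≤ (R : Subgroup (alternatingGroup (Fin n))) := Subgroup.zpowers_le.2 ha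
  have hB : Subgroup.zpowers b ≤ (R : Subgroup (alternatingGroup (Fin n))) := Subgroup.zpowers_le.2 hb
  refine ⟨Subgroup.zpowers a, Subgroup.zpowers b, ?_, ?_, hA, hB, fun x hx y hy => ?_, ?_, ?_⟩
  · exact fun e => ha1 ((Subgroup.zpowers_eq_bot).1 e)
  · exact fun e => hb1 ((Subgroup.zpowers_eq_bot).1 e)
  · have h1 := hsq _ (mul_mem (hA hx) (hB hy))
    have h2 := hsq _ (hA hx)
    have h3 := hsq _ (hB hy)
    calc x * y = x * (x * y * (x * y)) * y := by rw [h1, mul_one]
      _ = (x * x) * y * x * (y * y) := by simp only [mul_assoc]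
      _ = y * x := by rw [h2, h3, one_mul, mul_one]
  · have hd : Nat.card ↥(Subgroup.zpowers a ⊓ Subgroup.zpowers b) ∣ 2 :=
      hzc a ha ha1 ▸ Subgroup.card_dvd_of_le inf_le_left
    rcases (Nat.dvd_prime Nat.prime_two).1 hd with h | h
    · exact Subgroup.card_eq_one.1 h
    · exfalso
      have e1 := Subgroup.eq_of_le_of_card_ge (inf_le_left : Subgroup.zpowers a ⊓ Subgroup.zpowers b ≤ _)
        (by rw [h, hzc a ha ha1])
      have e2 := Subgroup.eq_of_le_of_card_ge (inf_le_right : Subgroup.zpowers a ⊓ Subgroup.zpowers b ≤ _)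
        (by rw [h, hzc b hb hb1])
      exact hba ((e2.symm.trans e1) ▸ Subgroup.mem_zpowers b)
  · refine Subgroup.eq_of_le_of_card_ge (sup_le hA hB) ?_
    have hlt : Nat.card (Subgroup.zpowers a) < Nat.card ↥(Subgroup.zpowers a ⊔ Subgroup.zpowers b) := by
      refine lt_of_le_of_ne (Subgroup.card_le_of_le le_sup_left) fun e => hba ?_
      rw [Subgroup.eq_of_le_of_card_ge (le_sup_left : Subgroup.zpowers a ≤ Subgroup.zpowers a ⊔ Subgroup.zpowers b) e.ge]
      exact Subgroup.mem_sup_right (Subgroup.mem_zpowers b)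
    have hdvd := Subgroup.card_dvd_of_le (sup_le hA hB)
    rw [hcard] at hdvd ⊢
    rw [hzc a ha ha1] at hlt
    have := Nat.le_of_dvd (by norm_num) hdvd
    by_contra hc
    have : Nat.card ↥(Subgroup.zpowers a ⊔ Subgroup.zpowers b) = 3 := by omega
    rw [this] at hdvd
    exact absurd hdvd (by norm_num)

theorem decomp_sylow_alt_iff (n : ℕ) (hn : 4 ≤ n) (R : Sylow 2 (alternatingGroup (Fin n))) :
    Decomp (R : Subgroup (alternatingGroup (Fin n))) ↔
      (n = 4 ∨ n = 5 ∨ ((n % 4 = 2 ∨ n % 4 = 3) ∧ ∀ r : ℕ, 4 * (n / 4) ≠ 2 ^ r)) := by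
  by_cases h45 : n = 4 ∨ n = 5
  · exact iff_of_true (decomp_small h45 R) (by tauto)
  rw [not_or] at h45
  obtain ⟨P, hP⟩ := (R.isPGroup'.map (alternatingGroup (Fin n)).subtype).exists_le_sylow
  have hmap : (R : Subgroup (alternatingGroup (Fin n))).map (alternatingGroup (Fin n)).subtype = evens P := by
    refine le_antisymm (le_inf hP (Subgroup.map_subtype_le _)) fun g hg => ?_
    have hp : IsPGroup 2 ((P : Subgroup (Perm (Fin n))).subgroupOf (alternatingGroup (Fin n))) :=
      P.isPGroup'.comap_of_injective _ Subtype.val_injective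
    have hle : (R : Subgroup (alternatingGroup (Fin n))) ≤
        (P : Subgroup (Perm (Fin n))).subgroupOf (alternatingGroup (Fin n)) := fun r hr => hP ⟨r, hr, rfl⟩
    exact ⟨⟨g, hg.2⟩, (R.3 hp hle).le hg.1, rfl⟩
  rw [← decomp_map_iff _ (alternatingGroup (Fin n)).subtype_injective, hmap,
    decomp_evens_iff P (by simpa using hn) (by simpa using h45)]
  simp [h45.1, h45.2]

end CfsgLib.Perm.SylowTwoDecomp
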